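import Cfsg.Agent.LargeExtra.W2.Iface
import Cfsg.Agent.SporRec.LyReduce
set_option linter.all false

/-!
# S1759, case I with all outer conjugates of type `c` is impossible (lemma (K) of helper995; helper893)

`orbit`: `t` an involution of `C_G(z) - Q`, `|C_Q(t)| = 4`, `|Q| = 32`: all involutions of `tQ` are conjugate to
`t` under `Q`, and `C_Q(t)` is elementary abelian.
`case_one_dead`: `G` simple non-abelian, `z^G ∩ Q = {z}`, `|C_Q(t)| = 4` for all `t ∈ z^G ∩ C_G(z) - Q`: impossible.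
-/

set_option autoImplicit false

namespace Cfsg.Agent.LargeExtra.W2

open Cfsg.Agent.Co2Type.Quad

variable {G : Type*} [Group G] {Q : Subgroup G} {z : G}

section orbit

variable [Finite G]

/-- `{c ∈ Q : t c t⁻¹ ∈ {c, c z}}` -/
def wGrp (h : Large Q z) (t : G) (ht : t * z = z * t) : Subgroup G where
  carrier := {c | c ∈ Q ∧ (t * c = c * t ∨ t * c = c * t * z)}
  one_mem' := ⟨Q.one_mem, Or.inl (by group)⟩
  mul_mem' := by
    rintro a b ⟨ha, ha'⟩ ⟨hb, hb'⟩
    refine ⟨Q.mul_mem ha hb, ?_⟩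
    have hbz : b * z = z * b := h.comm_z b hb
    rcases ha' with ha' | ha' <;> rcases hb' with hb' | hb'
    · left
      calc t * (a * b) = t * a * b := by group
        _ = a * (t * b) := by rw [ha']; group
        _ = a * b * t := by rw [hb']; group
    · right
      calc t * (a * b) = t * a * b := by group
        _ = a * (t * b) := by rw [ha']; group
        _ = a * b * t * z := by rw [hb']; group
    · right
      calc t * (a * b) = t * a * b := by group
        _ = a * t * (z * b) := by rw [ha']; group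
        _ = a * (t * b) * z := by rw [← hbz]; group
        _ = a * b * t * z := by rw [hb']; group
    · left
      calc t * (a * b) = t * a * b := by group
        _ = a * t * (z * b) := by rw [ha']; group
        _ = a * (t * b) * z := by rw [← hbz]; group
        _ = a * b * t * (z * z) := by rw [hb']; group
        _ = a * b * t := by rw [h.z_sq, mul_one]
  inv_mem' := by
    rintro a ⟨ha, ha'⟩
    refine ⟨Q.inv_mem ha, ?_⟩
    rcases ha' with ha' | ha'
    · left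
      calc t * a⁻¹ = a⁻¹ * (a * t) * a⁻¹ := by group
        _ = a⁻¹ * t := by rw [← ha']; group
    · right
      have haz : a⁻¹ * z = z * a⁻¹ := h.comm_z _ (Q.inv_mem ha)
      calc t * a⁻¹ = a⁻¹ * (a * t * z) * (z * a⁻¹) := by
            have e : a⁻¹ * (a * t * z) * (z * a⁻¹) = t * (z * z) * a⁻¹ := by group
            rw [e, h.z_sq, mul_one]
        _ = a⁻¹ * (t * a) * (z * a⁻¹) := by rw [← ha']
        _ = a⁻¹ * t * (a * (z * a⁻¹)) := by group
        _ = a⁻¹ * t * z := by rw [← haz]; group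

theorem mem_wGrp (h : Large Q z) (t : G) (ht : t * z = z * t) (c : G) :
    c ∈ wGrp h t ht ↔ c ∈ Q ∧ (t * c = c * t ∨ t * c = c * t * z) := Iff.rfl

/-- `|W| ≤ 2 |C_Q(t)|` -/
theorem card_wGrp_le (h : Large Q z) (t : G) (ht : t * z = z * t) :
    Nat.card (wGrp h t ht) ≤ 2 * Nat.card ↥(Q ⊓ Subgroup.centralizer ({t} : Set G)) := by
  classical
  set W := wGrp h t ht with hW
  set R := Q ⊓ Subgroup.centralizer ({t} : Set G) with hR
  have hRW : R ≤ W := by
    intro c hc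
    obtain ⟨h1, h2⟩ := Subgroup.mem_inf.1 hc
    exact ⟨h1, Or.inl (Subgroup.mem_centralizer_singleton_iff.1 h2).symm⟩
  have h1 := Subgroup.card_mul_index (R.subgroupOf W)
  have h2 : Nat.card (R.subgroupOf W) = Nat.card R :=
    Nat.card_congr (Subgroup.subgroupOfEquivOfLe hRW).toEquiv
  have h3 : (R.subgroupOf W).index ≤ 2 := by
    -- products of two elements outside `R` are in `R`
    rw [Subgroup.index]
    by_contra hcon
    push Not at hcon
    have hfin : Finite (W ⧸ R.subgroupOf W) := inferInstance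
    have : Fintype (W ⧸ R.subgroupOf W) := Fintype.ofFinite _
    rw [Nat.card_eq_fintype_card, Fintype.two_lt_card_iff] at hcon
    obtain ⟨a, b, c, hab, hac, hbc⟩ := hcon
    obtain ⟨a, rfl⟩ := QuotientGroup.mk_surjective a
    obtain ⟨b, rfl⟩ := QuotientGroup.mk_surjective b
    obtain ⟨c, rfl⟩ := QuotientGroup.mk_surjective c
    have key : ∀ x y : W, (t * (x : G) = x * t ∧ t * (y : G) = y * t) ∨
        (t * (x : G) = x * t * z ∧ t * (y : G) = y * t * z) →
        (QuotientGroup.mk x : W ⧸ R.subgroupOf W) = QuotientGroup.mk y := by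
      intro x y hxy
      rw [QuotientGroup.eq, Subgroup.mem_subgroupOf]
      refine Subgroup.mem_inf.2 ⟨Q.mul_mem (Q.inv_mem x.2.1) y.2.1, ?_⟩
      rw [Subgroup.mem_centralizer_singleton_iff]
      show (x : G)⁻¹ * y * t = t * ((x : G)⁻¹ * y)
      rcases hxy with ⟨hx, hy⟩ | ⟨hx, hy⟩
      · calc (x : G)⁻¹ * y * t = (x : G)⁻¹ * (y * t) := by group
          _ = (x : G)⁻¹ * (t * y) := by rw [hy]
          _ = (x : G)⁻¹ * (t * x) * ((x : G)⁻¹ * y) := by group
          _ = t * ((x : G)⁻¹ * y) := by rw [hx]; group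
      · have hyz : (y : G) * z = z * y := h.comm_z y y.2.1
        calc (x : G)⁻¹ * y * t = (x : G)⁻¹ * (y * t * z) * z := by
              have e : (x : G)⁻¹ * (y * t * z) * z = (x : G)⁻¹ * y * t * (z * z) := by group
              rw [e, h.z_sq, mul_one]
          _ = (x : G)⁻¹ * (t * y) * z := by rw [hy]
          _ = (x : G)⁻¹ * (t * x) * ((x : G)⁻¹ * y) * z := by group
          _ = (x : G)⁻¹ * (x * t * z) * ((x : G)⁻¹ * y) * z := by rw [hx]
          _ = t * (z * (x : G)⁻¹) * (y * z) := by group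
          _ = t * ((x : G)⁻¹ * z) * (z * y) := by
              rw [hyz, h.comm_z _ (Q.inv_mem x.2.1)]
          _ = t * (x : G)⁻¹ * (z * z) * y := by group
          _ = t * ((x : G)⁻¹ * y) := by rw [h.z_sq]; group
    rcases a.2.2 with ha | ha <;> rcases b.2.2 with hb | hb <;> rcases c.2.2 with hc | hc
    · exact hab (key a b (Or.inl ⟨ha, hb⟩))
    · exact hab (key a b (Or.inl ⟨ha, hb⟩))
    · exact hac (key a c (Or.inl ⟨ha, hc⟩))
    · exact hbc (key b c (Or.inr ⟨hb, hc⟩))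
    · exact hbc (key b c (Or.inl ⟨hb, hc⟩))
    · exact hac (key a c (Or.inr ⟨ha, hc⟩))
    · exact hab (key a b (Or.inr ⟨ha, hb⟩))
    · exact hab (key a b (Or.inr ⟨ha, hb⟩))
  rw [← h1, h2, mul_comm]
  exact Nat.mul_le_mul_right _ h3

/-- Elements inverted by `t` lie in `W`. -/
theorem mem_wGrp_of_inv (h : Large Q z) {t : G} (ht : t * z = z * t) {c : G} (hc : c ∈ Q)
    (hinv : t * c * t⁻¹ = c⁻¹) : c ∈ wGrp h t ht := by
  refine ⟨hc, ?_⟩
  rw [mul_inv_eq_iff_eq_mul] at hinv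
  have hcz : c * z = z * c := h.comm_z c hc
  rcases h.sq c hc with h1 | h1
  · left
    rw [hinv, inv_eq_of_mul_eq_one_left h1]
  · right
    have h2 : c⁻¹ = c * z := by
      rw [inv_eq_iff_mul_eq_one, ← mul_assoc, h1, h.z_sq]
    rw [hinv, h2, mul_assoc c z t, ← ht]; group

theorem orbit_aux (h : Large Q z) (h32 : Nat.card Q = 32) {t : G} (ht : t * z = z * t) (htt : t * t = 1)
    (h4 : Nat.card ↥(Q ⊓ Subgroup.centralizer ({t} : Set G)) = 4) :
    ∀ c ∈ wGrp h t ht, ∃ v ∈ Q, v * t * v⁻¹ = t * c := by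
  classical
  set W := wGrp h t ht with hW
  set R := Q ⊓ Subgroup.centralizer ({t} : Set G) with hR
  have htinv : t⁻¹ = t := inv_eq_of_mul_eq_one_left htt
  have hnorm : ∀ x ∈ Q, t * x * t⁻¹ ∈ Q := h.conj_mem t ht
  -- `v ↦ t⁻¹ v t v⁻¹ ∈ W`, constant exactly on left cosets `v R`
  have hmem : ∀ v ∈ Q, t⁻¹ * (v * t * v⁻¹) ∈ W := by
    intro v hv
    apply mem_wGrp_of_inv h ht
    · have : t⁻¹ * (v * t * v⁻¹) = (t * v * t⁻¹) * v⁻¹ := by rw [htinv]; group
      rw [this]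
      exact Q.mul_mem (hnorm v hv) (Q.inv_mem hv)
    · calc t * (t⁻¹ * (v * t * v⁻¹)) * t⁻¹ = v * t * v⁻¹ * t⁻¹ := by group
        _ = v * t⁻¹ * v⁻¹ * t := by rw [htinv]
        _ = (t⁻¹ * (v * t * v⁻¹))⁻¹ := by group
  let f : (Q ⧸ R.subgroupOf Q) → W := Quotient.lift (fun v : Q => (⟨t⁻¹ * (v * t * (v : G)⁻¹), hmem v v.2⟩ : W))
    (by
      intro a b hab
      have hab' : (a : Q)⁻¹ * b ∈ R.subgroupOf Q := QuotientGroup.leftRel_apply.1 hab
      have h1 := (Subgroup.mem_inf.1 (Subgroup.mem_subgroupOf.1 hab')).2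
      rw [Subgroup.mem_centralizer_singleton_iff] at h1
      have h2 : (a : G)⁻¹ * b * t = t * ((a : G)⁻¹ * b) := h1
      apply Subtype.ext
      show t⁻¹ * (a * t * (a : G)⁻¹) = t⁻¹ * (b * t * (b : G)⁻¹)
      congr 1
      calc (a : G) * t * (a : G)⁻¹ = a * (t * ((a : G)⁻¹ * b)) * (b : G)⁻¹ := by group
        _ = a * ((a : G)⁻¹ * b * t) * (b : G)⁻¹ := by rw [h2]
        _ = b * t * (b : G)⁻¹ := by group)
  have hf : Function.Injective f := by
    intro a b hab
    obtain ⟨a, rfl⟩ := QuotientGroup.mk_surjective a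
    obtain ⟨b, rfl⟩ := QuotientGroup.mk_surjective b
    have h1 : t⁻¹ * ((a : G) * t * (a : G)⁻¹) = t⁻¹ * ((b : G) * t * (b : G)⁻¹) :=
      congrArg Subtype.val hab
    have h2 : (a : G) * t * (a : G)⁻¹ = (b : G) * t * (b : G)⁻¹ := mul_left_cancel h1
    rw [QuotientGroup.eq, Subgroup.mem_subgroupOf]
    refine Subgroup.mem_inf.2 ⟨Q.mul_mem (Q.inv_mem a.2) b.2, ?_⟩
    rw [Subgroup.mem_centralizer_singleton_iff]
    show (a : G)⁻¹ * b * t = t * ((a : G)⁻¹ * b)
    calc (a : G)⁻¹ * b * t = (a : G)⁻¹ * (b * t * (b : G)⁻¹) * b := by group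
      _ = (a : G)⁻¹ * (a * t * (a : G)⁻¹) * b := by rw [h2]
      _ = t * ((a : G)⁻¹ * b) := by group
  have hRQ : R ≤ Q := inf_le_left
  have hcR : Nat.card (R.subgroupOf Q) = 4 := by
    rw [← h4]; exact Nat.card_congr (Subgroup.subgroupOfEquivOfLe hRQ).toEquiv
  have hidx : Nat.card (Q ⧸ R.subgroupOf Q) = 8 := by
    have := Subgroup.card_eq_card_quotient_mul_card_subgroup (R.subgroupOf Q)
    rw [h32, hcR] at this
    omega
  have hWle : Nat.card W ≤ 8 := by
    have := card_wGrp_le h t ht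
    rw [h4] at this
    exact this
  have hbij : Function.Bijective f := by
    have hfW : Finite W := inferInstance
    rw [Nat.bijective_iff_injective_and_card]
    refine ⟨hf, le_antisymm (Nat.card_le_card_of_injective f hf) ?_⟩
    rw [hidx]; exact hWle
  intro c hc
  obtain ⟨v, hv⟩ := hbij.2 ⟨c, hc⟩
  obtain ⟨v, rfl⟩ := QuotientGroup.mk_surjective v
  refine ⟨v, v.2, ?_⟩
  have h1 : t⁻¹ * ((v : G) * t * (v : G)⁻¹) = c := congrArg Subtype.val hv
  rw [← h1]; group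

/-- `|Q| = 32`, `|C_Q(t)| = 4`: the elements `t c`, `c ∈ C_Q(t)`, are conjugate to `t` under `Q`. -/
theorem orbit (h : Large Q z) (h32 : Nat.card Q = 32) {t : G} (ht : t * z = z * t) (htt : t * t = 1)
    (h4 : Nat.card ↥(Q ⊓ Subgroup.centralizer ({t} : Set G)) = 4) {c : G} (hc : c ∈ Q)
    (hct : c * t = t * c) : ∃ v ∈ Q, v * t * v⁻¹ = t * c :=
  orbit_aux h h32 ht htt h4 c ⟨hc, Or.inl hct.symm⟩

end orbit

/-- Case I with `|C_Q(t)| = 4` for all outer conjugates `t` of `z` is impossible. -/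
theorem case_one_dead [Finite G] [IsSimpleGroup G] (hnc : ¬ IsMulCommutative G) (h : Large Q z)
    (h32 : Nat.card Q = 32)
    (hI : ∀ g : G, g * z * g⁻¹ ∈ Q → g * z * g⁻¹ = z)
    (hc : ∀ g : G, g * z * g⁻¹ * z = z * (g * z * g⁻¹) → g * z * g⁻¹ ∉ Q →
      Nat.card ↥(Q ⊓ Subgroup.centralizer ({g * z * g⁻¹} : Set G)) = 4) : False := by
  classical
  have hnc' : ∃ a b : G, a * b ≠ b * a := by
    by_contra hcon
    push Not at hcon
    exact hnc ⟨⟨fun a b => hcon a b⟩⟩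
  obtain ⟨g, hg1, hg2⟩ := Cfsg.Agent.SporRec.LyReduce.exists_conj_ne z (Base.orderOf_z h) hnc'
  have hg2' : g * z * g⁻¹ * z = z * (g * z * g⁻¹) := hg2.eq.symm
  -- the group `Q_t`, `t = z^g`
  set t := g * z * g⁻¹ with ht
  have htQ : t ∉ Q := fun hin => hg1 (hI g hin)
  have hLt : Large (Q.map (MulAut.conj g).toMonoidHom) t := h.conj g
  set Qt := Q.map (MulAut.conj g).toMonoidHom with hQt
  have hcardt : Nat.card Qt = 32 := by
    rw [hQt, ← h32]
    exact Subgroup.card_map_of_injective (MulAut.conj g).injective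
  -- case I for `Q_t`
  have hIt : ∀ k : G, k * z * k⁻¹ ∈ Qt → k * z * k⁻¹ = t := by
    intro k hk
    obtain ⟨x, hx, hxk⟩ := hk
    have hxk' : g * x * g⁻¹ = k * z * k⁻¹ := hxk
    have h1 : (g⁻¹ * k) * z * (g⁻¹ * k)⁻¹ = x := by
      calc (g⁻¹ * k) * z * (g⁻¹ * k)⁻¹ = g⁻¹ * (k * z * k⁻¹) * g := by group
        _ = x := by rw [← hxk']; group
    have h2 := hI (g⁻¹ * k) (by rw [h1]; exact hx)
    rw [h1] at h2
    rw [← hxk', h2]
  -- `|C_{Q_t}(z)| = 4`
  have h4 : Nat.card ↥(Qt ⊓ Subgroup.centralizer ({z} : Set G)) = 4 := by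
    have h5 : g⁻¹ * z * g⁻¹⁻¹ * z = z * (g⁻¹ * z * g⁻¹⁻¹) := by
      have e1 : g⁻¹ * z * g⁻¹⁻¹ * z = g⁻¹ * (z * t) * g := by rw [ht]; group
      have e2 : z * (g⁻¹ * z * g⁻¹⁻¹) = g⁻¹ * (t * z) * g := by rw [ht]; group
      rw [e1, e2, hg2']
    have h6 : g⁻¹ * z * g⁻¹⁻¹ ∉ Q := by
      intro hin
      have h7 := hI g⁻¹ hin
      apply hg1
      have h8 : z = g * z * g⁻¹ := by
        calc z = g * (g⁻¹ * z * g⁻¹⁻¹) * g⁻¹ := by group
          _ = g * z * g⁻¹ := by rw [h7]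
      exact h8.symm
    rw [← hc g⁻¹ h5 h6]
    -- conjugation by `g`
    have e : Qt ⊓ Subgroup.centralizer ({z} : Set G) =
        (Q ⊓ Subgroup.centralizer ({g⁻¹ * z * g⁻¹⁻¹} : Set G)).map (MulAut.conj g).toMonoidHom := by
      ext x
      constructor
      · intro hx
        obtain ⟨⟨y, hy, rfl⟩, hx2⟩ := Subgroup.mem_inf.1 hx
        have hx2' : g * y * g⁻¹ * z = z * (g * y * g⁻¹) := Subgroup.mem_centralizer_singleton_iff.1 hx2
        refine ⟨y, Subgroup.mem_inf.2 ⟨hy, Subgroup.mem_centralizer_singleton_iff.2 ?_⟩, rfl⟩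
        calc y * (g⁻¹ * z * g⁻¹⁻¹) = g⁻¹ * (g * y * g⁻¹ * z) * g := by group
          _ = g⁻¹ * (z * (g * y * g⁻¹)) * g := by rw [hx2']
          _ = g⁻¹ * z * g⁻¹⁻¹ * y := by group
      · rintro ⟨y, hy, rfl⟩
        obtain ⟨hy1, hy2⟩ := Subgroup.mem_inf.1 hy
        have hy2' := Subgroup.mem_centralizer_singleton_iff.1 hy2
        refine Subgroup.mem_inf.2 ⟨⟨y, hy1, rfl⟩, Subgroup.mem_centralizer_singleton_iff.2 ?_⟩
        show g * y * g⁻¹ * z = z * (g * y * g⁻¹)
        calc g * y * g⁻¹ * z = g * (y * (g⁻¹ * z * g⁻¹⁻¹)) * g⁻¹ := by group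
          _ = g * (g⁻¹ * z * g⁻¹⁻¹ * y) * g⁻¹ := by rw [hy2']
          _ = z * (g * y * g⁻¹) := by group
    rw [e]
    exact Subgroup.card_map_of_injective (MulAut.conj g).injective
  -- `d ∈ X - ⟨t⟩`
  obtain ⟨d, hd, hd1, hdt⟩ : ∃ d ∈ Qt ⊓ Subgroup.centralizer ({z} : Set G), d ≠ 1 ∧ d ≠ t := by
    by_contra hcon
    push Not at hcon
    have hle : Nat.card ↥(Qt ⊓ Subgroup.centralizer ({z} : Set G)) ≤ Nat.card (Fin 2) := by
      refine Nat.card_le_card_of_injective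
        (fun x : ↥(Qt ⊓ Subgroup.centralizer ({z} : Set G)) => if (x : G) = 1 then (0 : Fin 2) else 1) ?_
      intro x y hxy
      apply Subtype.ext
      by_cases hx : (x : G) = 1 <;> by_cases hy : (y : G) = 1
      · rw [hx, hy]
      · simp [hx, hy] at hxy
      · simp [hx, hy] at hxy
      · rw [hcon x x.2 hx, hcon y y.2 hy]
    rw [h4, Nat.card_eq_fintype_card, Fintype.card_fin] at hle
    omega
  obtain ⟨hdQ, hdz⟩ := Subgroup.mem_inf.1 hd
  have hdz' : d * z = z * d := Subgroup.mem_centralizer_singleton_iff.1 hdz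
  -- `z d ∈ z^G`
  obtain ⟨v, -, hv⟩ := orbit hLt hcardt hg2'.symm h.z_sq h4 hdQ hdz'
  have hzdQ : v * z * v⁻¹ ∉ Q := by
    intro hin
    have h1 := hI v hin
    rw [hv] at h1
    exact hd1 (mul_eq_left.1 h1)
  have hzdz : v * z * v⁻¹ * z = z * (v * z * v⁻¹) := by
    rw [hv, mul_assoc, hdz']
  have h4' := hc v hzdz hzdQ
  have hsq : v * z * v⁻¹ * (v * z * v⁻¹) = 1 := by
    calc v * z * v⁻¹ * (v * z * v⁻¹) = v * (z * z) * v⁻¹ := by group
      _ = 1 := by rw [h.z_sq]; group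
  obtain ⟨w, -, hw⟩ := orbit h h32 hzdz hsq h4' h.z_mem hzdz.symm
  have h5 : (w * v) * z * (w * v)⁻¹ = d := by
    calc (w * v) * z * (w * v)⁻¹ = w * (v * z * v⁻¹) * w⁻¹ := by group
      _ = z * d * z := by rw [hw, hv]
      _ = z * (z * d) := by rw [mul_assoc, hdz']
      _ = d := by rw [← mul_assoc, h.z_sq, one_mul]
  exact hdt (by rw [← h5]; exact hIt (w * v) (by rw [h5]; exact hdQ))

end Cfsg.Agent.LargeExtra.W2
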