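import Cfsg.Agent.LargeExtra.W2.Lift
import Cfsg.Agent.LargeExtra.W2.PlusHom
import Cfsg.Agent.LargeExtra.W2.CaseOneDead
import Cfsg.Agent.LargeExtra.W2.Kill94
set_option linter.all false

/-!
# Involutions of type `c` of `C_G(z)` have `|C_Q(t)| = 4`; `Case94` is impossible
-/

set_option autoImplicit false

namespace Cfsg.Agent.LargeExtra.W2.CType

open Cfsg.Agent.Co2Type.Quad Cfsg.Agent.LargeExtra.Model Cfsg.Agent.LargeExtra.Pres
open Cfsg.Agent.LargeExtra.Models Cfsg.Agent.LargeExtra.W2 Cfsg.Agent.LargeExtra.W2.PlusHom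

variable {G : Type*} [Group G] {Q : Subgroup G} {z i j k l : G}

theorem card_eq_of_endo (P : Plus Q z i j k l) {t i' j' k' l' : G} (A : Act z i j k l t i' j' k' l')
    (a b d e : M) (hI : Good rP4 4 (gens a b d e)) (ha : PlusHom.hom P a = i') (hb : PlusHom.hom P b = j')
    (hd : PlusHom.hom P d = k') (he : PlusHom.hom P e = l') :
    Nat.card ↥(Q ⊓ Subgroup.centralizer ({t} : Set G)) = Fintype.card {m : M // endo a b d e hI m = m} := by
  rw [← Nat.card_eq_fintype_card]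
  have key : ∀ m : M, endo a b d e hI m = m ↔ PlusHom.hom P m * t = t * PlusHom.hom P m := by
    intro m
    rw [← hom_eq_iff P, ← conj_hom P A a b d e hI ha hb hd he m, mul_inv_eq_iff_eq_mul]
    exact eq_comm
  symm
  refine Nat.card_congr (Equiv.ofBijective (fun m : {m : M // endo a b d e hI m = m} =>
    (⟨PlusHom.hom P m.1, PlusHom.hom_mem P m.1, Subgroup.mem_centralizer_singleton_iff.2 ((key m.1).1 m.2)⟩ :
      ↥(Q ⊓ Subgroup.centralizer ({t} : Set G)))) ⟨?_, ?_⟩)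
  · rintro ⟨m, hm⟩ ⟨m', hm'⟩ h
    exact Subtype.ext (hom_injective P (congrArg Subtype.val h))
  · rintro ⟨x, hx, hxt⟩
    obtain ⟨m, rfl⟩ := exists_hom P hx
    exact ⟨⟨m, (key m).2 (Subgroup.mem_centralizer_singleton_iff.1 hxt)⟩, rfl⟩

theorem card_four (P : Plus Q z i j k l) {t : G} (htz : t * z = z * t) (htt : t * t = 1)
    (h0 : t * i * t⁻¹ = j ∨ t * i * t⁻¹ = j * z) (h2 : t * k * t⁻¹ = l ∨ t * k * t⁻¹ = l * z) :
    Nat.card ↥(Q ⊓ Subgroup.centralizer ({t} : Set G)) = 4 := by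
  have hz : t * z * t⁻¹ = z := by rw [htz]; group
  have back : ∀ {x y : G}, t * x * t⁻¹ = y → t * y * t⁻¹ = x := by
    rintro x y rfl
    calc t * (t * x * t⁻¹) * t⁻¹ = (t * t) * x * (t * t)⁻¹ := by group
      _ = x := by rw [htt]; group
  have backz : ∀ {x y : G}, t * x * t⁻¹ = y * z → t * y * t⁻¹ = x * z := by
    intro x y h
    have h1 := back h
    have h2 : t * (y * z) * t⁻¹ = (t * y * t⁻¹) * z := by
      calc t * (y * z) * t⁻¹ = (t * y * t⁻¹) * (t * z * t⁻¹) := by group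
        _ = _ := by rw [hz]
    rw [h2] at h1
    rw [← h1, mul_assoc (t * y * t⁻¹) z z, P.large.z_sq, mul_one]
  have ez : ∀ {m : M} {x : G}, PlusHom.hom P m = x → PlusHom.hom P (m * zz) = x * z := by
    intro m x h
    rw [map_mul, h, hom_zz]
  rcases h0 with h0 | h0 <;> rcases h2 with h2 | h2
  · rw [card_eq_of_endo P (⟨hz, h0, back h0, h2, back h2⟩ : Act z i j k l t j i l k) mj mi ml mk
      (by decide +kernel) (hom_j P) (hom_i P) (hom_l P) (hom_k P)]
    decide +kernel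
  · rw [card_eq_of_endo P (⟨hz, h0, back h0, h2, backz h2⟩ : Act z i j k l t j i (l * z) (k * z)) mj mi
      (ml * zz) (mk * zz) (by decide +kernel) (hom_j P) (hom_i P) (ez (hom_l P)) (ez (hom_k P))]
    decide +kernel
  · rw [card_eq_of_endo P (⟨hz, h0, backz h0, h2, back h2⟩ : Act z i j k l t (j * z) (i * z) l k) (mj * zz)
      (mi * zz) ml mk (by decide +kernel) (ez (hom_j P)) (ez (hom_i P)) (hom_l P) (hom_k P)]
    decide +kernel
  · rw [card_eq_of_endo P (⟨hz, h0, backz h0, h2, backz h2⟩ : Act z i j k l t (j * z) (i * z) (l * z) (k * z))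
      (mj * zz) (mi * zz) (ml * zz) (mk * zz) (by decide +kernel) (ez (hom_j P)) (ez (hom_i P)) (ez (hom_l P))
      (ez (hom_k P))]
    decide +kernel

theorem ind_new (P : Plus Q z i j k l) (s a : Wr) (c : Subgroup.centralizer ({z} : Set G)) :
    Hom.Ind (Lift.plus_new P s) c a ↔ Hom.Ind P c (s * a * s⁻¹) := by
  constructor
  · intro hc p
    have h1 := hc (Wr.app s⁻¹ p)
    rw [Lift.u_new, Lift.u_new, ← Wr.app_mul, mul_inv_cancel, Wr.app_one] at h1
    rw [Wr.app_mul, Wr.app_mul]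
    exact h1
  · intro hc p
    rw [Lift.u_new, Lift.u_new]
    have h1 := hc (Wr.app s p)
    rw [← Wr.app_mul, inv_mul_cancel_right, Wr.app_mul] at h1
    exact h1

theorem conj_y : ∀ a : Wr, a.bg = false → Wr.od a.fg = true → Wr.od a.sg = true →
    ∃ m n : Fin 3, (Wr.X1 ^ (m : ℕ) * Wr.X2 ^ (n : ℕ)) * Wr.Yy * (Wr.X1 ^ (m : ℕ) * Wr.X2 ^ (n : ℕ))⁻¹ = a := by
  decide +kernel

/-- Involutions of type `c` have `|C_Q(t)| = 4`. -/
theorem card_ctype (P : Plus Q z i j k l) (t : Subgroup.centralizer ({z} : Set G)) (htt : (t : G) * t = 1)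
    {a : Wr} (ha : Hom.Ind P t a) (hb : a.bg = false) (h1 : Wr.od a.fg = true) (h2 : Wr.od a.sg = true) :
    Nat.card ↥(Q ⊓ Subgroup.centralizer ({(t : G)} : Set G)) = 4 := by
  obtain ⟨m, n, rfl⟩ := conj_y a hb h1 h2
  set s := Wr.X1 ^ (m : ℕ) * Wr.X2 ^ (n : ℕ)
  have h3 := (ind_new P s Wr.Yy t).2 ha
  have P' := Lift.plus_new P s
  have c0 := Lift.conj_of_ind _ h3 (.inl 0)
  have c2 := Lift.conj_of_ind _ h3 (.inr 0)
  exact card_four P' (Subgroup.mem_centralizer_singleton_iff.1 t.2) htt c0 c2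

/-- `Case94` does not occur. -/
theorem case94 [Finite G] [IsSimpleGroup G] (hnc : ¬ IsMulCommutative G) {x₁ x₂ f : G}
    (h : Case94 Q z i j k l x₁ x₂ f) (hX : ∀ a, a ∈ Hom.im h.toPlus ↔ Wr.D .f4 a = true) : False := by
  by_cases hI : ∀ g : G, g * z * g⁻¹ ∈ Q → g * z * g⁻¹ = z
  · refine case_one_dead hnc h.large h.card hI fun g hg hgQ => ?_
    have htC : g * z * g⁻¹ ∈ Subgroup.centralizer ({z} : Set G) := Subgroup.mem_centralizer_singleton_iff.2 hg
    have htt : g * z * g⁻¹ * (g * z * g⁻¹) = 1 := by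
      have : g * z * g⁻¹ * (g * z * g⁻¹) = g * (z * z) * g⁻¹ := by group
      rw [this, h.large.z_sq, mul_one, mul_inv_cancel]
    obtain ⟨a, ha⟩ := Hom.exists_ind h.toPlus ⟨_, htC⟩
    have h1 : a ≠ 1 := by
      rintro rfl
      exact hgQ (Hom.mem_of_ind ha)
    have h2 : a * a = 1 := (ha.mul ha).unique (Hom.ind_of_mem (c := ⟨_, htC⟩ * ⟨_, htC⟩)
      (by show g * z * g⁻¹ * (g * z * g⁻¹) ∈ Q; rw [htt]; exact Q.one_mem))
    have key : ∀ a : Wr, a ≠ 1 → a * a = 1 → Wr.D .f4 a = true →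
        a.bg = false ∧ Wr.od a.fg = true ∧ Wr.od a.sg = true := by decide +kernel
    obtain ⟨k1, k2, k3⟩ := key a h1 h2 ((hX a).1 ⟨_, ha⟩)
    exact card_ctype h.toPlus ⟨_, htC⟩ htt ha k1 k2 k3
  · push Not at hI
    obtain ⟨g, hg1, hg2⟩ := hI
    exact Kill94.case94_false h (Base.pair_of_conj h.large hg1 hg2)

end Cfsg.Agent.LargeExtra.W2.CType
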