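import Cfsg.Agent.Lib.KleinGen
import Cfsg.Agent.Lib.KleinOrder
import Cfsg.Agent.StandardComponent.CentCore
import Cfsg.Agent.S0215
import Cfsg.Agent.FastGrp
import Cfsg.Agent.Prune
set_option linter.all false
prune_inst 0x7f00000000000000000000000000000000000000000000000000000000000000000000000000000000000000000000000000000000000000000000000000000000000000000000000000000000000000003fffffffffffffffffffffffffffbeffbdffffffff
open scoped Cfsg.Agent.FastGrp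

/-!
# 3-local analysis for `G₂(3)` and `L₄(3)` (S1759; helper865, after helper860)

`z` an involution, `P = ⟨x, y⟩` elementary of order `9` in `C_G(z)`, `C_G(z) ∩ C_G(x) = ⟨x⟩ × Q⟨y⟩`, `Q` quaternion
with centre `⟨z⟩`, `τ` an involution of `C_G(z)` inverting `P`. Then `C_G(x) = K (Q⟨y⟩)` with `K = O(C_G(x))`,
`C_K(z) = ⟨x⟩`, `z` inverts `K / ⟨x⟩` and `|K| = 3 a²`, `a = |C_K(τ)|`.
-/

set_option autoImplicit false

namespace Cfsg.Agent.LargeExtra.W2.ThreeA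

open Cfsg Cfsg.Agent.StandardComponent.CentCore

/-- normaliser growth in a `p`-group -/
theorem exists_normalizing {G : Type*} [Group G] [Finite G] {p : ℕ} [Fact p.Prime] {T Q : Subgroup G}
    (hT : IsPGroup p T) (hQT : Q ≤ T) (hne : Q ≠ T) : ∃ r ∈ T, r ∉ Q ∧ ∀ q ∈ Q, r * q * r⁻¹ ∈ Q := by
  have hnil : Group.IsNilpotent T := hT.isNilpotent
  have hcond := Group.normalizerCondition_of_isNilpotent (G := T)
  have hlt : Q.subgroupOf T < ⊤ := by
    rw [lt_top_iff_ne_top]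
    intro h
    rw [Subgroup.subgroupOf_eq_top] at h
    exact hne (le_antisymm hQT h)
  obtain ⟨r, hr1, hr2⟩ := SetLike.exists_of_lt (hcond _ hlt)
  refine ⟨r, r.2, hr2, ?_⟩
  intro q hq
  exact (Subgroup.mem_normalizer_iff.1 hr1 ⟨q, hQT hq⟩).1 hq

/-- a `2`-element of order dividing `3` is trivial -/
theorem eq_one_of_two_three {G : Type*} [Group G] {Q : Subgroup G} (hQ : IsPGroup 2 Q) {m : G} (hm : m ∈ Q)
    (h3 : m ^ 3 = 1) : m = 1 := by
  obtain ⟨k, hk⟩ := hQ ⟨m, hm⟩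
  have hk' : m ^ 2 ^ k = 1 := congrArg Subtype.val hk
  have h1 : orderOf m ∣ 2 ^ k := orderOf_dvd_of_pow_eq_one hk'
  have h2 : orderOf m ∣ 3 := orderOf_dvd_of_pow_eq_one h3
  have h3 : orderOf m ∣ Nat.gcd (2 ^ k) 3 := Nat.dvd_gcd h1 h2
  have h4 : Nat.gcd (2 ^ k) 3 = 1 := Nat.Coprime.pow_left k (by decide)
  rw [h4, Nat.dvd_one] at h3
  exact orderOf_eq_one_iff.1 h3

/-- a `2`-element of odd order is trivial -/
theorem eq_one_of_two_odd {G : Type*} [Group G] {Q : Subgroup G} (hQ : IsPGroup 2 Q) {m : G} (hm : m ∈ Q)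
    (h3 : Odd (orderOf m)) : m = 1 := by
  obtain ⟨k, hk⟩ := hQ ⟨m, hm⟩
  have hk' : m ^ 2 ^ k = 1 := congrArg Subtype.val hk
  have h1 : orderOf m ∣ 2 ^ k := orderOf_dvd_of_pow_eq_one hk'
  have h2 : (orderOf m).Coprime (2 ^ k) := Nat.Coprime.pow_right k (Nat.coprime_two_right.2 h3)
  have h4 := Nat.Coprime.eq_one_of_dvd h2 h1
  exact orderOf_eq_one_iff.1 h4

/-- The data for one of the two factors `Q⟨y⟩ ≅ SL₂(3)` of `C_G(z)`. -/
structure Half {G : Type*} [Group G] (z τ x y : G) (Q : Subgroup G) : Prop where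
  z1 : z ≠ 1
  zz : z * z = 1
  ττ : τ * τ = 1
  zτ : z * τ = τ * z
  x3 : x ^ 3 = 1
  x1 : x ≠ 1
  y3 : y ^ 3 = 1
  xy : x * y = y * x
  zx : z * x = x * z
  zy : z * y = y * z
  τx : τ * x * τ⁻¹ = x⁻¹
  τy : τ * y * τ⁻¹ = y⁻¹
  two : IsPGroup 2 Q
  z_mem : z ∈ Q
  uniq : ∀ q ∈ Q, q * q = 1 → q = 1 ∨ q = z
  Qx : ∀ q ∈ Q, q * x = x * q
  Qy : ∀ q ∈ Q, y * q * y⁻¹ ∈ Q
  fpf : ∀ q ∈ Q, y * q = q * y → q = 1 ∨ q = z
  ne : ∃ q ∈ Q, y * q ≠ q * y
  cent : ∀ g, g * z = z * g → g * x = x * g → ∃ a b : ℤ, ∃ q ∈ Q, g = x ^ a * (y ^ b * q)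
  sw : ∃ q ∈ Q, q * τ * q⁻¹ = z * τ
  sq : ∃ q ∈ Q, q * q = z

namespace Half

variable {G : Type*} [Group G] {z τ x y : G} {Q : Subgroup G} (h : Half z τ x y Q)

include h

theorem z_inv : z⁻¹ = z := inv_eq_of_mul_eq_one_right h.zz

theorem τ_inv : τ⁻¹ = τ := inv_eq_of_mul_eq_one_right h.ττ

theorem Qz {q : G} (hq : q ∈ Q) : q * z = z * q := by
  have h1 : q * z * q⁻¹ ∈ Q := Q.mul_mem (Q.mul_mem hq h.z_mem) (Q.inv_mem hq)
  have h2 : q * z * q⁻¹ * (q * z * q⁻¹) = 1 := by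
    calc q * z * q⁻¹ * (q * z * q⁻¹) = q * (z * z) * q⁻¹ := by group
      _ = 1 := by rw [h.zz]; group
  rcases h.uniq _ h1 h2 with h3 | h3
  · exfalso
    apply h.z1
    calc z = q⁻¹ * (q * z * q⁻¹) * q := by group
      _ = 1 := by rw [h3]; group
  · exact mul_inv_eq_iff_eq_mul.1 h3

/-- an element normalising `Q` centralises `z` -/
theorem comm_z_of_norm {r : G} (hr : ∀ q ∈ Q, r * q * r⁻¹ ∈ Q) : r * z = z * r := by
  have h1 := hr z h.z_mem
  have h2 : r * z * r⁻¹ * (r * z * r⁻¹) = 1 := by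
    calc r * z * r⁻¹ * (r * z * r⁻¹) = r * (z * z) * r⁻¹ := by group
      _ = 1 := by rw [h.zz]; group
  rcases h.uniq _ h1 h2 with h3 | h3
  · exfalso
    apply h.z1
    calc z = r⁻¹ * (r * z * r⁻¹) * r := by group
      _ = 1 := by rw [h3]; group
  · exact mul_inv_eq_iff_eq_mul.1 h3

theorem xy_zpow (a b : ℤ) : x ^ a * y ^ b = y ^ b * x ^ a :=
  ((show Commute x y from h.xy).zpow_zpow a b).eq

theorem xy_cube (a b : ℤ) : (x ^ a * y ^ b) ^ 3 = 1 := by
  have h0 : Commute (x ^ a) (y ^ b) := (show Commute x y from h.xy).zpow_zpow a b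
  rw [h0.mul_pow, ← zpow_natCast (x ^ a), ← zpow_natCast (y ^ b), ← zpow_mul, ← zpow_mul, mul_comm a, mul_comm b,
    zpow_mul, zpow_mul]
  simp only [zpow_natCast, h.x3, h.y3, one_zpow, mul_one]

theorem Qy_zpow {q : G} (hq : q ∈ Q) (b : ℤ) : y ^ b * q * (y ^ b)⁻¹ ∈ Q := by
  have hpos : ∀ n : ℕ, y ^ n * q * (y ^ n)⁻¹ ∈ Q := by
    intro n
    induction n with
    | zero => simpa using hq
    | succ n ih =>
      have := h.Qy _ ih
      rw [pow_succ']
      convert this using 1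
      group
  have hmod : y ^ b = y ^ (b % 3).toNat := by
    have h0 := Int.emod_nonneg b (show (3 : ℤ) ≠ 0 by norm_num)
    rw [← zpow_natCast, Int.toNat_of_nonneg h0]
    conv_lhs => rw [← Int.emod_add_mul_ediv b 3]
    rw [zpow_add, zpow_mul]
    have : y ^ (3 : ℤ) = 1 := by exact_mod_cast h.y3
    rw [this, one_zpow, mul_one]
  rw [hmod]
  exact hpos _

theorem x_zpow_comm {q : G} (hq : q ∈ Q) (a : ℤ) : q * x ^ a = x ^ a * q :=
  (Commute.zpow_right (show Commute q x from h.Qx q hq) a).eq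

section fin

variable [Finite G]

omit h in
/-- the centralizer as a type -/
abbrev Cx (x : G) : Subgroup G := Subgroup.centralizer ({x} : Set G)

/-- `Q` is a Sylow 2-subgroup of `C_G(x)`. -/
theorem exists_sylow : ∃ S : Sylow 2 (Cx x), ∀ s : Cx x, s ∈ S ↔ (s : G) ∈ Q := by
  have : Fact (Nat.Prime 2) := ⟨Nat.prime_two⟩
  have hQH : Q ≤ Cx x := fun q hq => mem_cent.2 (h.Qx q hq)
  have hQ' : IsPGroup 2 (Q.subgroupOf (Cx x)) := by
    intro q
    obtain ⟨k, hk⟩ := h.two ⟨((q : Cx x) : G), q.2⟩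
    refine ⟨k, Subtype.ext (Subtype.ext ?_)⟩
    have hk' : ((q : Cx x) : G) ^ 2 ^ k = 1 := congrArg Subtype.val hk
    exact hk'
  obtain ⟨S, hS⟩ := hQ'.exists_le_sylow
  refine ⟨S, ?_⟩
  by_cases heq : Q.subgroupOf (Cx x) = (S : Subgroup (Cx x))
  · intro s
    show s ∈ (S : Subgroup (Cx x)) ↔ _
    rw [← heq, Subgroup.mem_subgroupOf]
  · exfalso
    obtain ⟨r, hr1, hr2, hr3⟩ := exists_normalizing S.isPGroup' hS heq
    have hrn : ∀ q ∈ Q, (r : G) * q * (r : G)⁻¹ ∈ Q := by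
      intro q hq
      have := hr3 ⟨q, hQH hq⟩ hq
      exact this
    have hrz := h.comm_z_of_norm hrn
    obtain ⟨a, b, q, hq, hrq⟩ := h.cent r hrz (mem_cent.1 r.2)
    have hm : r * ⟨q, hQH hq⟩⁻¹ ∈ S := S.mul_mem hr1 (S.inv_mem (hS hq))
    have hm3 : (r * (⟨q, hQH hq⟩ : Cx x)⁻¹) ^ 3 = 1 := by
      apply Subtype.ext
      show ((r : G) * q⁻¹) ^ 3 = 1
      have : (r : G) * q⁻¹ = x ^ a * y ^ b := by rw [hrq]; group
      rw [this, h.xy_cube]
    have h1 := eq_one_of_two_three S.isPGroup' hm hm3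
    apply hr2
    rw [Subgroup.mem_subgroupOf]
    have h2 : r = ⟨q, hQH hq⟩ := mul_inv_eq_one.1 h1
    rw [h2]
    exact hq

/-- `z` is central in `C_G(x)` modulo `O(C_G(x))` (`Z*`-theorem). -/
theorem comm_mem_core {g : G} (hg : g * x = x * g) : z * g * z⁻¹ * g⁻¹ ∈ centralizerPPrimeCore 2 x := by
  obtain ⟨S, hS⟩ := h.exists_sylow
  have hzH : z ∈ Cx x := mem_cent.2 h.zx
  have hz2 : orderOf (⟨z, hzH⟩ : Cx x) = 2 := by
    rw [Subgroup.orderOf_mk]
    exact orderOf_eq_prime (by rw [pow_two, h.zz]) h.z1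
  obtain ⟨N, hN, hodd, hNc⟩ := Cfsg.Agent.S0215.result S ⟨z, hzH⟩ hz2 ((hS _).2 h.z_mem) (by
    intro g hg
    have h1 := (hS _).1 hg
    apply Subtype.ext
    have h2 : ((g * ⟨z, hzH⟩ * g⁻¹ : Cx x) : G) * ((g * ⟨z, hzH⟩ * g⁻¹ : Cx x) : G) = 1 := by
      show (g : G) * z * (g : G)⁻¹ * ((g : G) * z * (g : G)⁻¹) = 1
      calc (g : G) * z * (g : G)⁻¹ * ((g : G) * z * (g : G)⁻¹) = (g : G) * (z * z) * (g : G)⁻¹ := by group
        _ = 1 := by rw [h.zz]; group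
    rcases h.uniq _ h1 h2 with h3 | h3
    · exfalso
      apply h.z1
      have h4 : (g : G) * z * (g : G)⁻¹ = 1 := h3
      calc z = (g : G)⁻¹ * ((g : G) * z * (g : G)⁻¹) * (g : G) := by group
        _ = 1 := by rw [h4]; group
    · exact h3)
  have hle : N.map (Cx x).subtype ≤ centralizerPPrimeCore 2 x := by
    refine le_core x ?_ ?_ ?_
    · rintro _ ⟨n, -, rfl⟩
      exact mem_cent.1 n.2
    · rintro w hw _ ⟨n, hn, rfl⟩
      exact ⟨⟨w, mem_cent.2 hw⟩ * n * ⟨w, mem_cent.2 hw⟩⁻¹, hN.conj_mem n hn _, rfl⟩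
    · rwa [Subgroup.card_map_of_injective (Subgroup.subtype_injective _)]
  exact hle ⟨_, hNc ⟨g, mem_cent.2 hg⟩, rfl⟩

omit [Finite G] in
theorem z_core {k : G} (hk : k ∈ centralizerPPrimeCore 2 x) : z * k * z⁻¹ ∈ centralizerPPrimeCore 2 x :=
  core_conj_mem h.zx hk

/-- `C_G(x) = K C`, `C = C_G(x) ∩ C_G(z)`. -/
theorem exists_decomp {g : G} (hg : g * x = x * g) : ∃ k ∈ centralizerPPrimeCore 2 x, ∃ c : G,
    c * z = z * c ∧ c * x = x * c ∧ g = k * c := by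
  have h1 := h.comm_mem_core hg
  -- `g z g⁻¹ = k₁ z`, `k₁ = g z g⁻¹ z⁻¹`
  set k₁ := g * z * g⁻¹ * z⁻¹ with hk₁
  have hk₁' : k₁ ∈ centralizerPPrimeCore 2 x := by
    have : k₁ = (z * g * z⁻¹ * g⁻¹)⁻¹ := by rw [hk₁]; group
    rw [this]
    exact Subgroup.inv_mem _ h1
  have hinv : z * k₁ * z⁻¹ = k₁⁻¹ := by
    have e : z * k₁ * z⁻¹ * k₁ = 1 := by
      calc z * k₁ * z⁻¹ * k₁ = z * g * z * g⁻¹ * z⁻¹ * z⁻¹ * g * z * g⁻¹ * z⁻¹ := by rw [hk₁]; group
        _ = z * g * z * g⁻¹ * (z * z)⁻¹ * g * z * g⁻¹ * z⁻¹ := by group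
        _ = z * g * (z * z) * g⁻¹ * z⁻¹ := by rw [show (z * z)⁻¹ = 1 by rw [h.zz, inv_one]]; group
        _ = 1 := by rw [h.zz]; group
    exact eq_inv_of_mul_eq_one_left e
  obtain ⟨n, hn⟩ := core_odd_order hk₁'
  set m := k₁ ^ (n + 1) with hm
  have hmm : m * m = k₁ := by
    rw [hm, ← pow_add, show n + 1 + (n + 1) = orderOf k₁ + 1 by rw [hn]; ring, pow_succ, pow_orderOf_eq_one, one_mul]
  have hmK : m ∈ centralizerPPrimeCore 2 x := Subgroup.pow_mem _ hk₁' _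
  have hminv : z * m * z⁻¹ = m⁻¹ := by
    rw [hm, ← conj_pow, hinv, inv_pow]
  have hmz : m * z * m⁻¹ = g * z * g⁻¹ := by
    have h2 : z * m⁻¹ * z⁻¹ = m := by
      calc z * m⁻¹ * z⁻¹ = (z * m * z⁻¹)⁻¹ := by group
        _ = m := by rw [hminv, inv_inv]
    calc m * z * m⁻¹ = m * (z * m⁻¹ * z⁻¹) * z := by group
      _ = k₁ * z := by rw [h2, hmm]
      _ = g * z * g⁻¹ := by rw [hk₁]; group
  refine ⟨m, hmK, m⁻¹ * g, ?_, ?_, by group⟩
  · calc m⁻¹ * g * z = m⁻¹ * (g * z * g⁻¹) * g := by group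
      _ = z * (m⁻¹ * g) := by rw [← hmz]; group
  · have hmx : Commute m x := core_comm hmK
    exact (hmx.inv_left.mul_left (show Commute g x from hg)).eq

theorem x_mem : x ∈ centralizerPPrimeCore 2 x := by
  have hle : Subgroup.zpowers x ≤ centralizerPPrimeCore 2 x := by
    refine le_core x ?_ ?_ ?_
    · rintro _ ⟨n, rfl⟩
      exact ((Commute.refl x).zpow_left n).eq
    · rintro w hw _ ⟨n, rfl⟩
      refine ⟨n, ?_⟩
      show x ^ n = w * x ^ n * w⁻¹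
      rw [((show Commute w x from hw).zpow_right n).eq]
      group
    · rw [Nat.card_zpowers, orderOf_eq_prime h.x3 h.x1]
      decide
  exact hle (Subgroup.mem_zpowers x)

/-- `C_K(z) = ⟨x⟩` -/
theorem core_z {k : G} (hk : k ∈ centralizerPPrimeCore 2 x) (hkz : k * z = z * k) : k ∈ Subgroup.zpowers x := by
  obtain ⟨a, b, q, hq, hkq⟩ := h.cent k hkz (core_comm hk)
  -- `m = y^b q ∈ K` centralises `Q`
  set m := y ^ b * q with hm
  have hxa : x ^ a ∈ centralizerPPrimeCore 2 x := Subgroup.zpow_mem _ h.x_mem a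
  have hmK : m ∈ centralizerPPrimeCore 2 x := by
    have : m = (x ^ a)⁻¹ * k := by rw [hkq]; group
    rw [this]
    exact Subgroup.mul_mem _ (Subgroup.inv_mem _ hxa) hk
  have hmQ : ∀ t ∈ Q, m * t = t * m := by
    intro t ht
    have h1 : m * t * m⁻¹ * t⁻¹ ∈ centralizerPPrimeCore 2 x := by
      have h2 := core_conj_mem (h.Qx t ht) (Subgroup.inv_mem _ hmK)
      have : m * t * m⁻¹ * t⁻¹ = m * (t * m⁻¹ * t⁻¹) := by group
      rw [this]
      exact Subgroup.mul_mem _ hmK h2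
    have h2 : m * t * m⁻¹ * t⁻¹ ∈ Q := by
      have h3 : m * t * m⁻¹ = y ^ b * (q * t * q⁻¹) * (y ^ b)⁻¹ := by rw [hm]; group
      rw [h3]
      exact Q.mul_mem (h.Qy_zpow (Q.mul_mem (Q.mul_mem hq ht) (Q.inv_mem hq)) b) (Q.inv_mem ht)
    have h3 := eq_one_of_two_odd h.two h2 (core_odd_order h1)
    exact mul_inv_eq_iff_eq_mul.1 (mul_inv_eq_one.1 h3)
  have hm1 : m = 1 := by
    -- `q` commutes with `y^b`
    have hqy : q * y ^ b = y ^ b * q := by
      have h1 := hmQ q hq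
      rw [hm] at h1
      have h2 : y ^ b * q * q * q⁻¹ = q * (y ^ b * q) * q⁻¹ := by rw [h1]
      calc q * y ^ b = q * (y ^ b * q) * q⁻¹ := by group
        _ = y ^ b * q := by rw [← h2]; group
    by_cases hb : y ^ b = 1
    · rw [hm, hb, one_mul]
      rw [hm, hb, one_mul] at hmK
      exact eq_one_of_two_odd h.two hq (core_odd_order hmK)
    · exfalso
      -- `y` is a power of `y^b`
      have hyb : ∃ n : ℤ, y = (y ^ b) ^ n := by
        have hmod : ∀ c : ℤ, y ^ c = y ^ (c % 3) := by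
          intro c
          conv_lhs => rw [← Int.emod_add_mul_ediv c 3]
          rw [zpow_add, zpow_mul]
          have : y ^ (3 : ℤ) = 1 := by exact_mod_cast h.y3
          rw [this, one_zpow, mul_one]
        refine ⟨b, ?_⟩
        rw [← zpow_mul, hmod (b * b)]
        have h0 : b % 3 = 1 ∨ b % 3 = 2 := by
          have h0 := Int.emod_nonneg b (show (3 : ℤ) ≠ 0 by norm_num)
          have h1 := Int.emod_lt_of_pos b (show (0 : ℤ) < 3 by norm_num)
          have h2 : b % 3 ≠ 0 := by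
            intro h3
            apply hb
            rw [hmod b, h3, zpow_zero]
          omega
        have h3 : b * b % 3 = 1 := by
          rcases h0 with h0 | h0 <;> rw [Int.mul_emod, h0] <;> norm_num
        rw [h3, zpow_one]
      obtain ⟨n, hn⟩ := hyb
      have hcomm_of : ∀ t : G, t * y ^ b = y ^ b * t → y * t = t * y := by
        intro t ht
        rw [hn]
        exact ((show Commute t (y ^ b) from ht).zpow_right n).eq.symm
      have hqz := h.fpf q hq (hcomm_of q hqy)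
      obtain ⟨t, ht, hne⟩ := h.ne
      apply hne
      apply hcomm_of
      have hqt : q * t = t * q := by
        rcases hqz with rfl | rfl
        · group
        · exact (h.Qz ht).symm
      have h1 := hmQ t ht
      rw [hm] at h1
      -- `y^b q t = t y^b q`
      calc t * y ^ b = t * (y ^ b * q) * q⁻¹ := by group
        _ = y ^ b * (q * t) * q⁻¹ := by rw [← h1]; group
        _ = y ^ b * t := by rw [hqt]; group
  rw [hkq, hm1, mul_one]
  exact Subgroup.zpow_mem_zpowers x a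

omit [Finite G] h in
theorem core_inv (x : G) : centralizerPPrimeCore 2 x⁻¹ = centralizerPPrimeCore 2 x := by
  have : Subgroup.centralizer ({x⁻¹} : Set G) = Subgroup.centralizer ({x} : Set G) := by
    ext g
    rw [mem_cent, mem_cent]
    constructor
    · intro hg
      have : Commute g x⁻¹ := hg
      simpa using this.inv_right.eq
    · intro hg
      exact (Commute.inv_right (show Commute g x from hg)).eq
  unfold centralizerPPrimeCore
  rw [this]

theorem τ_core {k : G} (hk : k ∈ centralizerPPrimeCore 2 x) : τ * k * τ⁻¹ ∈ centralizerPPrimeCore 2 x := by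
  have h1 : τ * k * τ⁻¹ ∈ centralizerPPrimeCore 2 (τ * x * τ⁻¹) := by
    rw [mem_core_conj]
    convert hk using 1
    group
  rwa [h.τx, core_inv] at h1

theorem core_zτ {k : G} (hk : k ∈ centralizerPPrimeCore 2 x) (hkz : k * z = z * k) (hkτ : k * τ = τ * k) :
    k = 1 := by
  obtain ⟨n, hn⟩ := h.core_z hk hkz
  have hn' : x ^ n = k := hn
  have h1 : τ * k * τ⁻¹ = k⁻¹ := by
    rw [← hn', ← conj_zpow, h.τx, inv_zpow]
  rw [← hkτ, mul_inv_cancel_right] at h1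
  have h2 : k * k = 1 := by
    nth_rewrite 2 [h1]
    group
  have h3 := core_odd_order hk
  have h4 : orderOf k ∣ 2 := orderOf_dvd_of_pow_eq_one (by rw [pow_two, h2])
  have h5 := (Nat.Coprime.eq_one_of_dvd (Nat.coprime_two_right.2 h3) h4)
  exact orderOf_eq_one_iff.1 h5

omit [Finite G] in
theorem zττ : (z * τ) * (z * τ) = 1 := by
  calc (z * τ) * (z * τ) = z * (τ * z) * τ := by group
    _ = (z * z) * (τ * τ) := by rw [← h.zτ]; group
    _ = 1 := by rw [h.zz, h.ττ, mul_one]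

omit [Finite G] in
/-- `z τ` inverts `x`, `y`. -/
theorem zτx : (z * τ) * x * (z * τ)⁻¹ = x⁻¹ := by
  have hc : Commute z x⁻¹ := Commute.inv_right h.zx
  calc (z * τ) * x * (z * τ)⁻¹ = z * (τ * x * τ⁻¹) * z⁻¹ := by group
    _ = x⁻¹ := by rw [h.τx, hc.eq]; group

omit [Finite G] in
theorem zτy : (z * τ) * y * (z * τ)⁻¹ = y⁻¹ := by
  have hc : Commute z y⁻¹ := Commute.inv_right h.zy
  calc (z * τ) * y * (z * τ)⁻¹ = z * (τ * y * τ⁻¹) * z⁻¹ := by group
    _ = y⁻¹ := by rw [h.τy, hc.eq]; group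

/-- `z` inverts `C_K(τ)`. -/
theorem inv_of_τ {k : G} (hk : k ∈ centralizerPPrimeCore 2 x) (hkτ : k * τ = τ * k) : z * k * z⁻¹ = k⁻¹ := by
  set A := centralizerPPrimeCore 2 x ⊓ Subgroup.centralizer ({τ} : Set G) with hA
  have hAodd : Odd (Nat.card A) := Odd.of_dvd_nat (core_odd x) (Subgroup.card_dvd_of_le inf_le_left)
  have hzA : ∀ a ∈ A, z * a * z⁻¹ ∈ A := by
    rintro a ⟨ha1, ha2⟩
    refine ⟨h.z_core ha1, mem_cent.2 ?_⟩
    have ha2' := mem_cent.1 ha2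
    have hzτ : Commute z τ := h.zτ
    have : Commute (z * a * z⁻¹) τ := (hzτ.mul_left ha2').mul_left hzτ.inv_left
    exact this.eq
  obtain ⟨c, hc, m, hm, hzc, hzm, hkcm⟩ :=
    Cfsg.Agent.Lib.KleinGen.exists_centralizer_mul_inverted A hAodd z h.zz hzA (h := k) ⟨hk, mem_cent.2 hkτ⟩
  have hc1 : c = 1 := h.core_zτ hc.1 hzc.symm (mem_cent.1 hc.2)
  rw [hkcm, hc1, one_mul]
  exact hzm

/-- `z` inverts `C_K(z τ)`. -/
theorem inv_of_zτ {k : G} (hk : k ∈ centralizerPPrimeCore 2 x) (hkτ : k * (z * τ) = z * τ * k) :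
    z * k * z⁻¹ = k⁻¹ := by
  set A := centralizerPPrimeCore 2 x ⊓ Subgroup.centralizer ({z * τ} : Set G) with hA
  have hAodd : Odd (Nat.card A) := Odd.of_dvd_nat (core_odd x) (Subgroup.card_dvd_of_le inf_le_left)
  have hzzτ : Commute z (z * τ) := (Commute.refl z).mul_right h.zτ
  have hzA : ∀ a ∈ A, z * a * z⁻¹ ∈ A := by
    rintro a ⟨ha1, ha2⟩
    refine ⟨h.z_core ha1, mem_cent.2 ?_⟩
    have ha2' := mem_cent.1 ha2
    have : Commute (z * a * z⁻¹) (z * τ) := (hzzτ.mul_left ha2').mul_left hzzτ.inv_left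
    exact this.eq
  obtain ⟨c, hc, m, hm, hzc, hzm, hkcm⟩ :=
    Cfsg.Agent.Lib.KleinGen.exists_centralizer_mul_inverted A hAodd z h.zz hzA (h := k) ⟨hk, mem_cent.2 hkτ⟩
  have hcτ : c * τ = τ * c := by
    have h1 : Commute c (z * τ) := mem_cent.1 hc.2
    have h2 : Commute c z := hzc.symm
    have h3 : Commute c (z⁻¹ * (z * τ)) := h2.inv_right.mul_right h1
    rw [inv_mul_cancel_left] at h3
    exact h3.eq
  have hc1 : c = 1 := h.core_zτ hc.1 hzc.symm hcτ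
  rw [hkcm, hc1, one_mul]
  exact hzm

/-- `z` inverts `K` modulo `⟨x⟩`. -/
theorem exists_inv {k : G} (hk : k ∈ centralizerPPrimeCore 2 x) : ∃ n : ℤ, ∃ m ∈ centralizerPPrimeCore 2 x,
    z * m * z⁻¹ = m⁻¹ ∧ k = x ^ n * m := by
  obtain ⟨c, hc, m, hm, hzc, hzm, hkcm⟩ :=
    Cfsg.Agent.Lib.KleinGen.exists_centralizer_mul_inverted (centralizerPPrimeCore 2 x) (core_odd x) z h.zz
      (fun a ha => h.z_core ha) hk
  obtain ⟨n, hn⟩ := h.core_z hc hzc.symm
  exact ⟨n, m, hm, hzm, by rw [hkcm, ← hn]⟩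

theorem z_conj {k : G} (hk : k ∈ centralizerPPrimeCore 2 x) : ∃ n : ℤ, z * k * z⁻¹ = k⁻¹ * x ^ n := by
  obtain ⟨n, m, hm, hzm, rfl⟩ := h.exists_inv hk
  have hxm : Commute m x := core_comm hm
  refine ⟨2 * n, ?_⟩
  have hz : Commute z (x ^ n) := Commute.zpow_right h.zx n
  calc z * (x ^ n * m) * z⁻¹ = z * x ^ n * m * z⁻¹ := by group
    _ = x ^ n * (z * m * z⁻¹) := by rw [hz.eq]; group
    _ = x ^ n * m⁻¹ := by rw [hzm]
    _ = m⁻¹ * x ^ n := by rw [(hxm.inv_left.zpow_right n).eq]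
    _ = (x ^ n * m)⁻¹ * x ^ (2 * n) := by
      rw [mul_inv_rev, mul_assoc, ← zpow_neg, ← zpow_add]
      congr 2
      ring

/-- `K / ⟨x⟩` is abelian. -/
theorem core_comm_mod {k l : G} (hk : k ∈ centralizerPPrimeCore 2 x) (hl : l ∈ centralizerPPrimeCore 2 x) :
    ∃ n : ℤ, k * l = l * k * x ^ n := by
  obtain ⟨a, ha⟩ := h.z_conj hk
  obtain ⟨b, hb⟩ := h.z_conj hl
  obtain ⟨c, hc⟩ := h.z_conj (Subgroup.mul_mem _ hk hl)
  have hkx : Commute k x := core_comm hk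
  have hlx : Commute l x := core_comm hl
  -- `z k l z⁻¹ = (k l)⁻¹ x^c = k⁻¹ x^a l⁻¹ x^b`
  have e1 : z * (k * l) * z⁻¹ = (z * k * z⁻¹) * (z * l * z⁻¹) := by group
  rw [hc, ha, hb] at e1
  -- `l⁻¹ k⁻¹ x^c = k⁻¹ l⁻¹ x^(a+b)`
  have e2 : l⁻¹ * k⁻¹ * x ^ c = k⁻¹ * l⁻¹ * x ^ (a + b) := by
    calc l⁻¹ * k⁻¹ * x ^ c = (k * l)⁻¹ * x ^ c := by group
      _ = k⁻¹ * x ^ a * (l⁻¹ * x ^ b) := e1
      _ = k⁻¹ * (x ^ a * l⁻¹) * x ^ b := by group
      _ = k⁻¹ * (l⁻¹ * x ^ a) * x ^ b := by rw [(hlx.inv_left.zpow_right a).eq]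
      _ = k⁻¹ * l⁻¹ * x ^ (a + b) := by rw [zpow_add]; group
  -- invert
  refine ⟨c - (a + b), ?_⟩
  have hkn : ∀ n : ℤ, k * x ^ n = x ^ n * k := fun n => (hkx.zpow_right n).eq
  have hln : ∀ n : ℤ, l * x ^ n = x ^ n * l := fun n => (hlx.zpow_right n).eq
  have e3 : x ^ (-c) * (k * l) = x ^ (-(a + b)) * (l * k) := by
    have := congrArg (fun t => t⁻¹) e2
    simp only [mul_inv_rev, inv_inv, ← zpow_neg] at this
    exact this
  calc k * l = x ^ c * (x ^ (-c) * (k * l)) := by group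
    _ = x ^ (c - (a + b)) * (l * k) := by rw [e3, ← mul_assoc, ← zpow_add]; congr 2
    _ = l * k * x ^ (c - (a + b)) := by rw [mul_assoc l, hkn, ← mul_assoc, ← mul_assoc, hln]

/-- `|K| = 3 a²`, `a = |C_K(τ)|` -/
theorem card_core : Nat.card (centralizerPPrimeCore 2 x) =
    3 * Nat.card (centralizerPPrimeCore 2 x ⊓ Subgroup.centralizer {τ} : Subgroup G) ^ 2 := by
  have h0 := Cfsg.Agent.Lib.KleinOrder.card_klein (centralizerPPrimeCore 2 x) (core_odd x) h.zz h.ττ h.zτ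
    (fun k hk => h.z_core hk) (fun k hk => h.τ_core hk)
  have h1 : Nat.card (centralizerPPrimeCore 2 x ⊓ Subgroup.centralizer {z} ⊓ Subgroup.centralizer {τ} :
      Subgroup G) = 1 := by
    rw [Subgroup.card_eq_one, eq_bot_iff]
    rintro k ⟨⟨h1, h2⟩, h3⟩
    exact h.core_zτ h1 (mem_cent.1 h2) (mem_cent.1 h3)
  have h2 : (centralizerPPrimeCore 2 x ⊓ Subgroup.centralizer {z} : Subgroup G) = Subgroup.zpowers x := by
    apply le_antisymm
    · rintro k ⟨h1, h2⟩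
      exact h.core_z h1 (mem_cent.1 h2)
    · rw [Subgroup.zpowers_le]
      exact ⟨h.x_mem, mem_cent.2 h.zx.symm⟩
  have h3 : Nat.card (centralizerPPrimeCore 2 x ⊓ Subgroup.centralizer {z * τ} : Subgroup G) =
      Nat.card (centralizerPPrimeCore 2 x ⊓ Subgroup.centralizer {τ} : Subgroup G) := by
    obtain ⟨q, hq, hqτ⟩ := h.sw
    have hmap : (centralizerPPrimeCore 2 x ⊓ Subgroup.centralizer {z * τ} : Subgroup G) =
        (centralizerPPrimeCore 2 x ⊓ Subgroup.centralizer {τ} : Subgroup G).map (MulAut.conj q).toMonoidHom := by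
      ext g
      constructor
      · rintro ⟨h1, h2⟩
        refine ⟨q⁻¹ * g * q, ⟨?_, ?_⟩, ?_⟩
        · have h3 := core_conj_mem (y := q⁻¹) (Commute.inv_left (show Commute q x from h.Qx q hq)).eq h1
          rwa [inv_inv] at h3
        · have h4 := mem_cent.1 h2
          refine mem_cent.2 ?_
          rw [← hqτ] at h4
          calc q⁻¹ * g * q * τ = q⁻¹ * (g * (q * τ * q⁻¹)) * q := by group
            _ = τ * (q⁻¹ * g * q) := by rw [h4]; group
        · show q * (q⁻¹ * g * q) * q⁻¹ = g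
          group
      · rintro ⟨k, ⟨h1, h2⟩, rfl⟩
        have h4 := mem_cent.1 h2
        refine ⟨core_conj_mem (h.Qx q hq) h1, mem_cent.2 ?_⟩
        show q * k * q⁻¹ * (z * τ) = z * τ * (q * k * q⁻¹)
        rw [← hqτ]
        calc q * k * q⁻¹ * (q * τ * q⁻¹) = q * (k * τ) * q⁻¹ := by group
          _ = q * τ * q⁻¹ * (q * k * q⁻¹) := by rw [h4]; group
    rw [hmap, Subgroup.card_map_of_injective (MulAut.conj q).injective]
  rw [h1, one_pow, mul_one, h2, h3, Nat.card_zpowers, orderOf_eq_prime h.x3 h.x1, mul_assoc, ← pow_two] at h0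
  exact h0

/-- `C_G(⟨x, y⟩) = C_K(y) ⟨y⟩ ⟨z⟩` -/
theorem cent_xy {g : G} (hgx : g * x = x * g) (hgy : g * y = y * g) : ∃ k ∈ centralizerPPrimeCore 2 x,
    k * y = y * k ∧ ∃ b : ℤ, g = k * y ^ b ∨ g = k * y ^ b * z := by
  obtain ⟨k, hk, c, hcz, hcx, hgkc⟩ := h.exists_decomp hgx
  obtain ⟨a, b, q, hq, hcq⟩ := h.cent c hcz hcx
  have hyy : y * x = x * y := h.xy.symm
  -- `c y c⁻¹ y⁻¹ ∈ K ∩ C(z) = ⟨x⟩`
  have hkin : k⁻¹ ∈ centralizerPPrimeCore 2 x := Subgroup.inv_mem _ hk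
  have h1 : c * y * c⁻¹ * y⁻¹ ∈ centralizerPPrimeCore 2 x := by
    have e : c * y * c⁻¹ * y⁻¹ = k⁻¹ * (y * k * y⁻¹) := by
      have hc : c = k⁻¹ * g := by rw [hgkc]; group
      calc c * y * c⁻¹ * y⁻¹ = k⁻¹ * (g * y) * g⁻¹ * k * y⁻¹ := by rw [hc]; group
        _ = k⁻¹ * (y * k * y⁻¹) := by rw [hgy]; group
    rw [e]
    exact Subgroup.mul_mem _ hkin (core_conj_mem hyy hk)
  -- it equals `y^b (q y q⁻¹ y⁻¹) y^(-b)`
  have h2 : c * y * c⁻¹ * y⁻¹ = y ^ b * (q * (y * q⁻¹ * y⁻¹)) * (y ^ b)⁻¹ := by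
    have hx : x ^ a * (y ^ b * q * y * q⁻¹ * (y ^ b)⁻¹) = (y ^ b * q * y * q⁻¹ * (y ^ b)⁻¹) * x ^ a := by
      have c1 : Commute (x ^ a) (y ^ b) := (show Commute x y from h.xy).zpow_zpow a b
      have c2 : Commute (x ^ a) q := (show Commute q (x ^ a) from h.x_zpow_comm hq a).symm
      have c3 : Commute (x ^ a) y := (show Commute x y from h.xy).zpow_left a
      exact ((((c1.mul_right c2).mul_right c3).mul_right c2.inv_right).mul_right c1.inv_right).eq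
    calc c * y * c⁻¹ * y⁻¹ = x ^ a * (y ^ b * q * y * q⁻¹ * (y ^ b)⁻¹) * (x ^ a)⁻¹ * y⁻¹ := by rw [hcq]; group
      _ = y ^ b * (q * (y * q⁻¹ * y⁻¹)) * (y ^ b)⁻¹ := by rw [hx]; group
  have h3 : c * y * c⁻¹ * y⁻¹ ∈ Q := by
    rw [h2]
    exact h.Qy_zpow (Q.mul_mem hq (h.Qy _ (Q.inv_mem hq))) b
  have h4 : c * y * c⁻¹ * y⁻¹ = 1 := eq_one_of_two_odd h.two h3 (core_odd_order h1)
  rw [h2] at h4
  have h5 : y * q = q * y := by
    have h6 : q * (y * q⁻¹ * y⁻¹) = 1 := by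
      calc q * (y * q⁻¹ * y⁻¹) = (y ^ b)⁻¹ * (y ^ b * (q * (y * q⁻¹ * y⁻¹)) * (y ^ b)⁻¹) * y ^ b := by group
        _ = 1 := by rw [h4]; group
    calc y * q = (q * (y * q⁻¹ * y⁻¹)) * y * q := by rw [h6, one_mul]
      _ = q * y := by group
  have hqz := h.fpf q hq h5
  have hxa : x ^ a ∈ centralizerPPrimeCore 2 x := Subgroup.zpow_mem _ h.x_mem a
  have hmem := Subgroup.mul_mem _ hk hxa
  have hcomm : ∀ w : G, w * y = y * w → g = (k * x ^ a) * w → (k * x ^ a) * y = y * (k * x ^ a) := by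
    intro w hw hgw
    have e : k * x ^ a = g * w⁻¹ := by rw [hgw]; group
    rw [e]
    exact ((show Commute g y from hgy).mul_left (Commute.inv_left (show Commute w y from hw))).eq
  have hyb : Commute (y ^ b) y := (Commute.refl y).zpow_left b
  refine ⟨k * x ^ a, hmem, ?_, b, ?_⟩
  · rcases hqz with rfl | rfl
    · refine hcomm (y ^ b) hyb.eq ?_
      rw [hgkc, hcq]; group
    · refine hcomm (y ^ b * q) (hyb.mul_left (show Commute q y from h.zy)).eq ?_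
      rw [hgkc, hcq]; group
  · rcases hqz with rfl | rfl
    · left
      rw [hgkc, hcq]; group
    · right
      rw [hgkc, hcq]; group

/-- If `C_K(τ) = 1` then `K = ⟨x⟩` and `C_G(x) ≤ C_G(z)`. -/
theorem comm_z_of_trivial (ht : ∀ k ∈ centralizerPPrimeCore 2 x, k * τ = τ * k → k = 1) {g : G}
    (hg : g * x = x * g) : g * z = z * g := by
  have h0 := h.card_core
  have h1 : (centralizerPPrimeCore 2 x ⊓ Subgroup.centralizer {τ} : Subgroup G) = ⊥ := by
    rw [eq_bot_iff]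
    rintro k ⟨h1, h2⟩
    exact ht k h1 (mem_cent.1 h2)
  rw [h1, Subgroup.card_bot, one_pow, mul_one] at h0
  have h2 : Subgroup.zpowers x = centralizerPPrimeCore 2 x := by
    apply Subgroup.eq_of_le_of_card_ge
    · rw [Subgroup.zpowers_le]; exact h.x_mem
    · rw [h0, Nat.card_zpowers, orderOf_eq_prime h.x3 h.x1]
  obtain ⟨k, hk, c, hcz, -, rfl⟩ := h.exists_decomp hg
  rw [← h2] at hk
  obtain ⟨n, hn⟩ := hk
  have hn' : x ^ n = k := hn
  have hkz : Commute k z := by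
    rw [← hn']
    exact (Commute.zpow_left (show Commute x z from h.zx.symm) n)
  exact (hkz.mul_left (show Commute c z from hcz)).eq

/-- elements of order `3` of `C_G(x)` inverted by `z` lie in `K` -/
theorem mem_core_of_inv {g : G} (hg : g * x = x * g) (hz : z * g * z⁻¹ = g⁻¹) (h3 : g ^ 3 = 1) :
    g ∈ centralizerPPrimeCore 2 x := by
  have h1 := h.comm_mem_core hg
  rw [hz] at h1
  have h2 : g⁻¹ * g⁻¹ = g := by
    have e : g⁻¹ * g⁻¹ = g⁻¹ * g⁻¹ * g ^ 3 := by rw [h3, mul_one]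
    rw [e]; group
  rwa [h2] at h1

/-- `K` is not centralised by `y`, unless `K = ⟨x⟩`. -/
theorem eq_of_le_cent (hy : ∀ k ∈ centralizerPPrimeCore 2 x, k * y = y * k) :
    ∀ k ∈ centralizerPPrimeCore 2 x, k ∈ Subgroup.zpowers x := by
  intro k hk
  apply h.core_z hk
  obtain ⟨t, ht, hne⟩ := h.ne
  -- `s = y t y⁻¹ t⁻¹ ∈ Q`, `s ≠ 1`, centralises `K`
  set s := y * t * y⁻¹ * t⁻¹ with hs
  have hsQ : s ∈ Q := Q.mul_mem (h.Qy t ht) (Q.inv_mem ht)
  have hs1 : s ≠ 1 := by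
    intro he
    apply hne
    exact mul_inv_eq_iff_eq_mul.1 (mul_inv_eq_one.1 he)
  have hsK : ∀ l ∈ centralizerPPrimeCore 2 x, Commute s l := by
    intro l hl
    have hty : Commute (t * y⁻¹ * t⁻¹) l := by
      have h1 := core_conj_mem (y := t⁻¹) (Commute.inv_left (show Commute t x from h.Qx t ht)).eq hl
      rw [inv_inv] at h1
      have h2 : Commute (t⁻¹ * l * t) y := hy _ h1
      have h3 : (t⁻¹ * l * t) * y⁻¹ = y⁻¹ * (t⁻¹ * l * t) := h2.inv_right.eq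
      show t * y⁻¹ * t⁻¹ * l = l * (t * y⁻¹ * t⁻¹)
      calc t * y⁻¹ * t⁻¹ * l = t * (y⁻¹ * (t⁻¹ * l * t)) * t⁻¹ := by group
        _ = l * (t * y⁻¹ * t⁻¹) := by rw [← h3]; group
    have hyl : Commute y l := (hy l hl).symm
    have : s = y * (t * y⁻¹ * t⁻¹) := by rw [hs]; group
    rw [this]
    exact hyl.mul_left hty
  -- a power of `s` is `z`
  have hzs : z ∈ Subgroup.zpowers s := by
    obtain ⟨n, hn⟩ := h.two ⟨s, hsQ⟩
    have hn' : s ^ 2 ^ n = 1 := congrArg Subtype.val hn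
    obtain ⟨m, hmlt, hm⟩ : ∃ m, s ^ 2 ^ m ≠ 1 ∧ s ^ 2 ^ (m + 1) = 1 := by
      classical
      have hex : ∃ n, s ^ 2 ^ n = 1 := ⟨n, hn'⟩
      have h0 : Nat.find hex ≠ 0 := by
        intro h0
        have := Nat.find_spec hex
        rw [h0, pow_zero, pow_one] at this
        exact hs1 this
      obtain ⟨m, hm⟩ := Nat.exists_eq_succ_of_ne_zero h0
      refine ⟨m, Nat.find_min hex (by omega), ?_⟩
      have := Nat.find_spec hex
      rwa [hm] at this
    rcases h.uniq (s ^ 2 ^ m) (Q.pow_mem hsQ _) (by rw [← pow_two, ← pow_mul, ← pow_succ, hm]) with h1 | h1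
    · exact absurd h1 hmlt
    · exact ⟨((2 ^ m : ℕ) : ℤ), by rw [← h1]; exact zpow_natCast s _⟩
  obtain ⟨j, hj⟩ := hzs
  have hj' : s ^ j = z := hj
  have hc : Commute z k := by
    rw [← hj']
    exact (hsK k hk).zpow_left j
  exact hc.symm.eq

end fin

/-- The involution `z τ` may be used instead of `τ`. -/
theorem swap : Half z (z * τ) x y Q where
  z1 := h.z1
  zz := h.zz
  ττ := h.zττ
  zτ := ((Commute.refl z).mul_right (show Commute z τ from h.zτ)).eq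
  x3 := h.x3
  x1 := h.x1
  y3 := h.y3
  xy := h.xy
  zx := h.zx
  zy := h.zy
  τx := h.zτx
  τy := h.zτy
  two := h.two
  z_mem := h.z_mem
  uniq := h.uniq
  Qx := h.Qx
  Qy := h.Qy
  fpf := h.fpf
  ne := h.ne
  cent := h.cent
  sw := by
    obtain ⟨q, hq, hqτ⟩ := h.sw
    refine ⟨q, hq, ?_⟩
    calc q * (z * τ) * q⁻¹ = (q * z) * τ * q⁻¹ := by group
      _ = z * (q * τ * q⁻¹) := by rw [h.Qz hq]; group
      _ = z * (z * τ) := by rw [hqτ]
  sq := h.sq

end Half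

end Cfsg.Agent.LargeExtra.W2.ThreeA
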