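import Cfsg.Agent.LargeExtra.W2.Lift
import Cfsg.Agent.LargeExtra.W2.Iface
set_option linter.all false

/-!
# Type `+`: the six cases
-/

set_option autoImplicit false

namespace Cfsg.Agent.LargeExtra.W2.Cases

open Cfsg.Agent.Co2Type.Quad Cfsg.Agent.LargeExtra.W2 Cfsg.Agent.LargeExtra.W2.Hom Cfsg.Agent.LargeExtra.W2.Lift

variable {G : Type*} [Group G] {Q : Subgroup G} {z i j k l : G}

theorem eapp {a : Wr} {p p' : Pt} (h : Wr.app a p = p') : e i j k l p' = e i j k l (Wr.app a p) := by rw [h]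

theorem eappz {a : Wr} {p p' : Pt} (h : Wr.app a p = p') : e i j k l p' * z = e i j k l (Wr.app a p) * z := by
  rw [h]

/-- composition with computed images -/
theorem comp' {c d ci cj ck cl di dj dk dl e0 e1 e2 e3 : G} (A : Act z i j k l c ci cj ck cl)
    (B : Act z i j k l d di dj dk dl) (h0 : c * di * c⁻¹ = e0) (h1 : c * dj * c⁻¹ = e1)
    (h2 : c * dk * c⁻¹ = e2) (h3 : c * dl * c⁻¹ = e3) : Act z i j k l (c * d) e0 e1 e2 e3 := by
  subst h0 h1 h2 h3
  exact A.comp B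

theorem exists_x1 (P : Plus Q z i j k l) (h : Wr.X1 ∈ im P) :
    ∃ x, Act z i j k l x j (i * j) k l ∧ x ^ 3 = 1 := by
  obtain ⟨c, A⟩ := exists_lift P h (t0 := j) (t1 := i * j) (t2 := k) (t3 := l)
    (Or.inl (eapp (p' := .inl 1) (by decide))) (Or.inl (eapp (p' := .inl 2) (by decide)))
    (Or.inl (eapp (p' := .inr 0) (by decide))) (Or.inl (eapp (p' := .inr 1) (by decide)))
  refine exists_cube P A ?_
  have A2 : Act z i j k l (c * c) (i * j) i k l := by
    refine comp' A A ?_ ?_ ?_ ?_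
    · exact A.j
    · simp only [conj_mul_mul, A.i, A.j]; simp only [mul_assoc, rules P]
    · exact A.k
    · exact A.l
  rw [pow_succ, pow_two]
  refine comp' A2 A ?_ ?_ ?_ ?_
  · exact A2.j
  · rw [conj_mul_mul, A2.i, A2.j]; simp only [mul_assoc, rules P]
  · exact A2.k
  · exact A2.l

theorem exists_x2 (P : Plus Q z i j k l) (h : Wr.X2 ∈ im P) :
    ∃ x, Act z i j k l x i j l (k * l) ∧ x ^ 3 = 1 := by
  obtain ⟨c, A⟩ := exists_lift P h (t0 := i) (t1 := j) (t2 := l) (t3 := k * l)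
    (Or.inl (eapp (p' := .inl 0) (by decide))) (Or.inl (eapp (p' := .inl 1) (by decide)))
    (Or.inl (eapp (p' := .inr 1) (by decide))) (Or.inl (eapp (p' := .inr 2) (by decide)))
  refine exists_cube P A ?_
  have A2 : Act z i j k l (c * c) i j (k * l) k := by
    refine comp' A A ?_ ?_ ?_ ?_
    · exact A.i
    · exact A.j
    · exact A.l
    · rw [conj_mul_mul, A.k, A.l]; simp only [mul_assoc, rules P]
  rw [pow_succ, pow_two]
  refine comp' A2 A ?_ ?_ ?_ ?_
  · exact A2.i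
  · exact A2.j
  · exact A2.l
  · rw [conj_mul_mul, A2.k, A2.l]; simp only [mul_assoc, rules P]

theorem exists_w (P : Plus Q z i j k l) (h : Wr.Ww ∈ im P) :
    ∃ x, Act z i j k l x j (i * j) (k * l) k ∧ x ^ 3 = 1 := by
  obtain ⟨c, A⟩ := exists_lift P h (t0 := j) (t1 := i * j) (t2 := k * l) (t3 := k)
    (Or.inl (eapp (p' := .inl 1) (by decide))) (Or.inl (eapp (p' := .inl 2) (by decide)))
    (Or.inl (eapp (p' := .inr 2) (by decide))) (Or.inl (eapp (p' := .inr 0) (by decide)))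
  refine exists_cube P A ?_
  have A2 : Act z i j k l (c * c) (i * j) i l (k * l) := by
    refine comp' A A ?_ ?_ ?_ ?_
    · exact A.j
    · rw [conj_mul_mul, A.i, A.j]; simp only [mul_assoc, rules P]
    · rw [conj_mul_mul, A.k, A.l]; simp only [mul_assoc, rules P]
    · exact A.k
  rw [pow_succ, pow_two]
  refine comp' A2 A ?_ ?_ ?_ ?_
  · exact A2.j
  · rw [conj_mul_mul, A2.i, A2.j]; simp only [mul_assoc, rules P]
  · rw [conj_mul_mul, A2.k, A2.l]; simp only [mul_assoc, rules P]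
  · exact A2.k

theorem exists_v (P : Plus Q z i j k l) (h : Wr.Vv ∈ im P) :
    ∃ x, Act z i j k l x j (i * j) l (k * l) ∧ x ^ 3 = 1 := by
  obtain ⟨c, A⟩ := exists_lift P h (t0 := j) (t1 := i * j) (t2 := l) (t3 := k * l)
    (Or.inl (eapp (p' := .inl 1) (by decide))) (Or.inl (eapp (p' := .inl 2) (by decide)))
    (Or.inl (eapp (p' := .inr 1) (by decide))) (Or.inl (eapp (p' := .inr 2) (by decide)))
  refine exists_cube P A ?_
  have A2 : Act z i j k l (c * c) (i * j) i (k * l) k := by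
    refine comp' A A ?_ ?_ ?_ ?_
    · exact A.j
    · rw [conj_mul_mul, A.i, A.j]; simp only [mul_assoc, rules P]
    · exact A.l
    · rw [conj_mul_mul, A.k, A.l]; simp only [mul_assoc, rules P]
  rw [pow_succ, pow_two]
  refine comp' A2 A ?_ ?_ ?_ ?_
  · exact A2.j
  · rw [conj_mul_mul, A2.i, A2.j]; simp only [mul_assoc, rules P]
  · exact A2.l
  · rw [conj_mul_mul, A2.k, A2.l]; simp only [mul_assoc, rules P]

theorem exists_y (P : Plus Q z i j k l) (h : Wr.Yy ∈ im P) :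
    ∃ y, Act z i j k l y (j * z) (i * z) (l * z) (k * z) ∧ (y * y = 1 ∨ y * y = z) := by
  obtain ⟨c, A⟩ := exists_lift P h (t0 := j * z) (t1 := i * z) (t2 := l * z) (t3 := k * z)
    (Or.inr (eappz (p' := .inl 1) (by decide))) (Or.inr (eappz (p' := .inl 0) (by decide)))
    (Or.inr (eappz (p' := .inr 1) (by decide))) (Or.inr (eappz (p' := .inr 0) (by decide)))
  refine ⟨c, A, ?_⟩
  have A2 : Act z i j k l (c * c) i j k l := by
    refine comp' A A ?_ ?_ ?_ ?_ <;> rw [conj_mul_mul, A.z]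
    · rw [A.j, mul_assoc, P.large.z_sq, mul_one]
    · rw [A.i, mul_assoc, P.large.z_sq, mul_one]
    · rw [A.l, mul_assoc, P.large.z_sq, mul_one]
    · rw [A.k, mul_assoc, P.large.z_sq, mul_one]
  rcases P.symp.act_unique Act.one A2 with h | h
  · exact Or.inl h
  · right; rw [h, one_mul]

theorem exists_s (P : Plus Q z i j k l) (h : Wr.Ss ∈ im P) :
    ∃ s, Act z i j k l s k l i j ∧ (s * s = 1 ∨ s * s = z) := by
  obtain ⟨c, A⟩ := exists_lift P h (t0 := k) (t1 := l) (t2 := i) (t3 := j)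
    (Or.inl (eapp (p' := .inr 0) (by decide))) (Or.inl (eapp (p' := .inr 1) (by decide)))
    (Or.inl (eapp (p' := .inl 0) (by decide))) (Or.inl (eapp (p' := .inl 1) (by decide)))
  refine ⟨c, A, ?_⟩
  have A2 : Act z i j k l (c * c) i j k l := comp' A A A.k A.l A.i A.j
  rcases P.symp.act_unique Act.one A2 with h | h
  · exact Or.inl h
  · right; rw [h, one_mul]

/-- the element of order four -/
def Ff : Wr := ⟨Wr.tau, 1, true⟩

theorem exists_f (P : Plus Q z i j k l) (h : Ff ∈ im P) :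
    ∃ f, Act z i j k l f k l (j * z) (i * z) ∧ (f ^ 4 = 1 ∨ f ^ 4 = z) := by
  obtain ⟨c, A⟩ := exists_lift P h (t0 := k) (t1 := l) (t2 := j * z) (t3 := i * z)
    (Or.inl (eapp (p' := .inr 0) (by decide))) (Or.inl (eapp (p' := .inr 1) (by decide)))
    (Or.inr (eappz (p' := .inl 1) (by decide))) (Or.inr (eappz (p' := .inl 0) (by decide)))
  refine ⟨c, A, ?_⟩
  have A2 : Act z i j k l (c * c) (j * z) (i * z) (l * z) (k * z) := by
    refine comp' A A A.k A.l ?_ ?_
    · rw [conj_mul_mul, A.z, A.j]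
    · rw [conj_mul_mul, A.z, A.i]
  have A4 : Act z i j k l ((c * c) * (c * c)) i j k l := by
    refine comp' A2 A2 ?_ ?_ ?_ ?_ <;> rw [conj_mul_mul, A2.z]
    · rw [A2.j, mul_assoc, P.large.z_sq, mul_one]
    · rw [A2.i, mul_assoc, P.large.z_sq, mul_one]
    · rw [A2.l, mul_assoc, P.large.z_sq, mul_one]
    · rw [A2.k, mul_assoc, P.large.z_sq, mul_one]
  have e4 : c ^ 4 = (c * c) * (c * c) := by
    rw [← pow_two, ← pow_two, ← pow_mul]
  rw [e4]
  rcases P.symp.act_unique Act.one A4 with h | h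
  · exact Or.inl h
  · right; rw [h, one_mul]

/-! ### relations -/

section rel

variable {c d c' ci cj ck cl di dj dk dl ei ej ek el : G}

/-- `c d c⁻¹ = d'` up to `z` gives equality for elements of order three -/
theorem rel3 (P : Plus Q z i j k l) (hd : d ^ 3 = 1) (hd' : c' ^ 3 = 1) (hz : c' * z = z * c')
    (A : Act z i j k l (c * d) ei ej ek el) (B : Act z i j k l (c' * c) ei ej ek el) (hc : c * z = z * c) :
    c * d * c⁻¹ = c' := by
  have h1 : (c * d * c⁻¹) ^ 3 = 1 := by rw [conj_pow, hd, mul_one, mul_inv_cancel]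
  apply rigid3 P hd' h1 hz
  rcases P.symp.act_unique B A with h | h
  · left; rw [h]; group
  · right
    have hzc : z * c⁻¹ = c⁻¹ * z := by rw [eq_inv_mul_iff_mul_eq, ← mul_assoc, hc]; group
    rw [h, mul_assoc _ z, hzc]; group

theorem inv3 {x : G} (h : x ^ 3 = 1) : x⁻¹ = x * x := by
  rw [pow_succ, pow_two] at h
  exact inv_eq_of_mul_eq_one_left (by rw [← h])

theorem x1_inv (P : Plus Q z i j k l) (A : Act z i j k l c j (i * j) k l) (h : c ^ 3 = 1) :
    Act z i j k l c⁻¹ (i * j) i k l := by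
  rw [inv3 h]
  refine comp' A A A.j ?_ A.k A.l
  rw [conj_mul_mul, A.i, A.j]; simp only [mul_assoc, rules P]

theorem x2_inv (P : Plus Q z i j k l) (A : Act z i j k l c i j l (k * l)) (h : c ^ 3 = 1) :
    Act z i j k l c⁻¹ i j (k * l) k := by
  rw [inv3 h]
  refine comp' A A A.i A.j A.l ?_
  rw [conj_mul_mul, A.k, A.l]; simp only [mul_assoc, rules P]

theorem w_inv (P : Plus Q z i j k l) (A : Act z i j k l c j (i * j) (k * l) k) (h : c ^ 3 = 1) :
    Act z i j k l c⁻¹ (i * j) i l (k * l) := by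
  rw [inv3 h]
  refine comp' A A A.j ?_ ?_ A.k
  · rw [conj_mul_mul, A.i, A.j]; simp only [mul_assoc, rules P]
  · rw [conj_mul_mul, A.k, A.l]; simp only [mul_assoc, rules P]

theorem v_inv (P : Plus Q z i j k l) (A : Act z i j k l c j (i * j) l (k * l)) (h : c ^ 3 = 1) :
    Act z i j k l c⁻¹ (i * j) i (k * l) k := by
  rw [inv3 h]
  refine comp' A A A.j ?_ A.l ?_
  · rw [conj_mul_mul, A.i, A.j]; simp only [mul_assoc, rules P]
  · rw [conj_mul_mul, A.k, A.l]; simp only [mul_assoc, rules P]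

theorem pow_inv3 {x : G} (h : x ^ 3 = 1) : (x⁻¹) ^ 3 = 1 := by rw [inv_pow, h, inv_one]

theorem rel_xx (P : Plus Q z i j k l) {x₁ x₂ : G} (A : Act z i j k l x₁ j (i * j) k l) (ha : x₁ ^ 3 = 1)
    (B : Act z i j k l x₂ i j l (k * l)) (hb : x₂ ^ 3 = 1) : x₁ * x₂ = x₂ * x₁ := by
  have h : x₁ * x₂ * x₁⁻¹ = x₂ := by
    refine rel3 P hb hb B.comm_z (comp' A B A.i A.j A.l ?_) (comp' B A (e0 := j) B.j ?_ B.k B.l) A.comm_z
    · rw [conj_mul_mul, A.k, A.l]
    · rw [conj_mul_mul, B.i, B.j]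
  rw [mul_inv_eq_iff_eq_mul] at h
  exact h

theorem rel_s1 (P : Plus Q z i j k l) {x₁ x₂ s : G} (A : Act z i j k l x₁ j (i * j) k l) (ha : x₁ ^ 3 = 1)
    (B : Act z i j k l x₂ i j l (k * l)) (hb : x₂ ^ 3 = 1) (S : Act z i j k l s k l i j) :
    s * x₁ * s⁻¹ = x₂ := by
  refine rel3 P ha hb B.comm_z (comp' S A S.j ?_ S.k S.l) (comp' B S (e0 := l) B.k B.l B.i B.j) S.comm_z
  rw [conj_mul_mul, S.i, S.j]

theorem rel_s2 (P : Plus Q z i j k l) {x₁ x₂ s : G} (A : Act z i j k l x₁ j (i * j) k l) (ha : x₁ ^ 3 = 1)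
    (B : Act z i j k l x₂ i j l (k * l)) (hb : x₂ ^ 3 = 1) (S : Act z i j k l s k l i j) :
    s * x₂ * s⁻¹ = x₁ := by
  refine rel3 P hb ha A.comm_z (comp' S B S.i S.j S.l ?_) (comp' A S (e0 := k) A.k A.l A.i A.j) S.comm_z
  rw [conj_mul_mul, S.k, S.l]

theorem rel_y1 (P : Plus Q z i j k l) {x₁ y : G} (A : Act z i j k l x₁ j (i * j) k l) (ha : x₁ ^ 3 = 1)
    (Y : Act z i j k l y (j * z) (i * z) (l * z) (k * z)) : y * x₁ * y⁻¹ = x₁⁻¹ := by
  have A' := x1_inv P A ha
  refine rel3 P ha (pow_inv3 ha) A'.comm_z (comp' Y A (e0 := i * z) (e1 := z * (i * j)) (e2 := l * z) (e3 := k * z)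
    Y.j ?_ Y.k Y.l) (comp' A' Y ?_ ?_ ?_ ?_) Y.comm_z
  · rw [conj_mul_mul, Y.i, Y.j]; simp only [mul_assoc, rules P]
  · rw [conj_mul_mul, A'.z, A'.j]
  · rw [conj_mul_mul, A'.z, A'.i]; simp only [mul_assoc, rules P]
  · rw [conj_mul_mul, A'.z, A'.l]
  · rw [conj_mul_mul, A'.z, A'.k]

theorem rel_y2 (P : Plus Q z i j k l) {x₂ y : G} (A : Act z i j k l x₂ i j l (k * l)) (ha : x₂ ^ 3 = 1)
    (Y : Act z i j k l y (j * z) (i * z) (l * z) (k * z)) : y * x₂ * y⁻¹ = x₂⁻¹ := by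
  have A' := x2_inv P A ha
  refine rel3 P ha (pow_inv3 ha) A'.comm_z (comp' Y A (e0 := j * z) (e1 := i * z) (e2 := k * z) (e3 := z * (k * l))
    Y.i Y.j Y.l ?_) (comp' A' Y ?_ ?_ ?_ ?_) Y.comm_z
  · rw [conj_mul_mul, Y.k, Y.l]; simp only [mul_assoc, rules P]
  · rw [conj_mul_mul, A'.z, A'.j]
  · rw [conj_mul_mul, A'.z, A'.i]
  · rw [conj_mul_mul, A'.z, A'.l]
  · rw [conj_mul_mul, A'.z, A'.k]; simp only [mul_assoc, rules P]

theorem rel_ws (P : Plus Q z i j k l) {w s : G} (A : Act z i j k l w j (i * j) (k * l) k) (ha : w ^ 3 = 1)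
    (S : Act z i j k l s k l i j) : s * w * s⁻¹ = w⁻¹ := by
  have A' := w_inv P A ha
  refine rel3 P ha (pow_inv3 ha) A'.comm_z (comp' S A (e0 := l) (e1 := k * l) (e2 := i * j) (e3 := i)
    S.j ?_ ?_ S.k) (comp' A' S A'.k A'.l A'.i A'.j) S.comm_z
  · rw [conj_mul_mul, S.i, S.j]
  · rw [conj_mul_mul, S.k, S.l]

theorem rel_vy (P : Plus Q z i j k l) {v y : G} (A : Act z i j k l v j (i * j) l (k * l)) (ha : v ^ 3 = 1)
    (Y : Act z i j k l y (j * z) (i * z) (l * z) (k * z)) : y * v * y⁻¹ = v⁻¹ := by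
  have A' := v_inv P A ha
  refine rel3 P ha (pow_inv3 ha) A'.comm_z (comp' Y A (e0 := i * z) (e1 := z * (i * j)) (e2 := k * z) (e3 := z * (k * l))
    Y.j ?_ Y.l ?_) (comp' A' Y ?_ ?_ ?_ ?_) Y.comm_z
  · rw [conj_mul_mul, Y.i, Y.j]; simp only [mul_assoc, rules P]
  · rw [conj_mul_mul, Y.k, Y.l]; simp only [mul_assoc, rules P]
  · rw [conj_mul_mul, A'.z, A'.j]
  · rw [conj_mul_mul, A'.z, A'.i]; simp only [mul_assoc, rules P]
  · rw [conj_mul_mul, A'.z, A'.l]
  · rw [conj_mul_mul, A'.z, A'.k]; simp only [mul_assoc, rules P]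

theorem rel_f1 (P : Plus Q z i j k l) {x₁ x₂ f : G} (A : Act z i j k l x₁ j (i * j) k l) (ha : x₁ ^ 3 = 1)
    (B : Act z i j k l x₂ i j l (k * l)) (hb : x₂ ^ 3 = 1) (F : Act z i j k l f k l (j * z) (i * z)) :
    f * x₁ * f⁻¹ = x₂ := by
  refine rel3 P ha hb B.comm_z (comp' F A (e0 := l) (e1 := k * l) (e2 := j * z) (e3 := i * z)
    F.j ?_ F.k F.l) (comp' B F B.k B.l ?_ ?_) F.comm_z
  · rw [conj_mul_mul, F.i, F.j]
  · rw [conj_mul_mul, B.z, B.j]
  · rw [conj_mul_mul, B.z, B.i]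

theorem rel_f2 (P : Plus Q z i j k l) {x₁ x₂ f : G} (A : Act z i j k l x₁ j (i * j) k l) (ha : x₁ ^ 3 = 1)
    (B : Act z i j k l x₂ i j l (k * l)) (hb : x₂ ^ 3 = 1) (F : Act z i j k l f k l (j * z) (i * z)) :
    f * x₂ * f⁻¹ = x₁⁻¹ := by
  have A' := x1_inv P A ha
  refine rel3 P hb (pow_inv3 ha) A'.comm_z (comp' F B (e0 := k) (e1 := l) (e2 := i * z) (e3 := z * (i * j))
    F.i F.j F.l ?_) (comp' A' F A'.k A'.l ?_ ?_) F.comm_z
  · rw [conj_mul_mul, F.k, F.l]; simp only [mul_assoc, rules P]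
  · rw [conj_mul_mul, A'.z, A'.j]
  · rw [conj_mul_mul, A'.z, A'.i]; simp only [mul_assoc, rules P]

theorem rel_ys (P : Plus Q z i j k l) {y s : G} (Y : Act z i j k l y (j * z) (i * z) (l * z) (k * z))
    (S : Act z i j k l s k l i j) : s * y * s⁻¹ = y ∨ s * y * s⁻¹ = y * z := by
  have h1 : Act z i j k l (s * y) (l * z) (k * z) (j * z) (i * z) := by
    refine comp' S Y ?_ ?_ ?_ ?_ <;> rw [conj_mul_mul, S.z]
    · rw [S.j]
    · rw [S.i]
    · rw [S.l]
    · rw [S.k]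
  have h2 : Act z i j k l (y * s) (l * z) (k * z) (j * z) (i * z) := comp' Y S Y.k Y.l Y.i Y.j
  rcases P.symp.act_unique h2 h1 with h | h
  · left; rw [h]; group
  · right
    have hzc : z * s⁻¹ = s⁻¹ * z := by rw [eq_inv_mul_iff_mul_eq, ← mul_assoc, S.comm_z]; group
    rw [h, mul_assoc _ z, hzc]; group

end rel

/-! ### generators -/

section ind

variable {c : G}

theorem ind_x1 (P : Plus Q z i j k l) (A : Act z i j k l c j (i * j) k l) : Ind P ⟨c, A.mem⟩ Wr.X1 :=
  ind_of_act P A.mem A (Or.inl (eapp (p' := .inl 1) (by decide))) (Or.inl (eapp (p' := .inl 2) (by decide)))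
    (Or.inl (eapp (p' := .inr 0) (by decide))) (Or.inl (eapp (p' := .inr 1) (by decide)))

theorem ind_x2 (P : Plus Q z i j k l) (A : Act z i j k l c i j l (k * l)) : Ind P ⟨c, A.mem⟩ Wr.X2 :=
  ind_of_act P A.mem A (Or.inl (eapp (p' := .inl 0) (by decide))) (Or.inl (eapp (p' := .inl 1) (by decide)))
    (Or.inl (eapp (p' := .inr 1) (by decide))) (Or.inl (eapp (p' := .inr 2) (by decide)))

theorem ind_w (P : Plus Q z i j k l) (A : Act z i j k l c j (i * j) (k * l) k) : Ind P ⟨c, A.mem⟩ Wr.Ww :=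
  ind_of_act P A.mem A (Or.inl (eapp (p' := .inl 1) (by decide))) (Or.inl (eapp (p' := .inl 2) (by decide)))
    (Or.inl (eapp (p' := .inr 2) (by decide))) (Or.inl (eapp (p' := .inr 0) (by decide)))

theorem ind_v (P : Plus Q z i j k l) (A : Act z i j k l c j (i * j) l (k * l)) : Ind P ⟨c, A.mem⟩ Wr.Vv :=
  ind_of_act P A.mem A (Or.inl (eapp (p' := .inl 1) (by decide))) (Or.inl (eapp (p' := .inl 2) (by decide)))
    (Or.inl (eapp (p' := .inr 1) (by decide))) (Or.inl (eapp (p' := .inr 2) (by decide)))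

theorem ind_y (P : Plus Q z i j k l) (A : Act z i j k l c (j * z) (i * z) (l * z) (k * z)) :
    Ind P ⟨c, A.mem⟩ Wr.Yy :=
  ind_of_act P A.mem A (Or.inr (eappz (p' := .inl 1) (by decide))) (Or.inr (eappz (p' := .inl 0) (by decide)))
    (Or.inr (eappz (p' := .inr 1) (by decide))) (Or.inr (eappz (p' := .inr 0) (by decide)))

theorem ind_s (P : Plus Q z i j k l) (A : Act z i j k l c k l i j) : Ind P ⟨c, A.mem⟩ Wr.Ss :=
  ind_of_act P A.mem A (Or.inl (eapp (p' := .inr 0) (by decide))) (Or.inl (eapp (p' := .inr 1) (by decide)))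
    (Or.inl (eapp (p' := .inl 0) (by decide))) (Or.inl (eapp (p' := .inl 1) (by decide)))

theorem ind_f (P : Plus Q z i j k l) (A : Act z i j k l c k l (j * z) (i * z)) : Ind P ⟨c, A.mem⟩ Ff :=
  ind_of_act P A.mem A (Or.inl (eapp (p' := .inr 0) (by decide))) (Or.inl (eapp (p' := .inr 1) (by decide)))
    (Or.inr (eappz (p' := .inl 1) (by decide))) (Or.inr (eappz (p' := .inl 0) (by decide)))

theorem memQ_cent (P : Plus Q z i j k l) {g : G} (hg : g ∈ ({i, j, k, l} : Set G)) :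
    g ∈ Subgroup.centralizer ({z} : Set G) := by
  apply Subgroup.mem_centralizer_singleton_iff.2
  simp only [Set.mem_insert_iff, Set.mem_singleton_iff] at hg
  rcases hg with rfl | rfl | rfl | rfl
  · exact P.large.comm_z _ P.symp.mem_i
  · exact P.large.comm_z _ P.symp.mem_j
  · exact P.large.comm_z _ P.symp.mem_k
  · exact P.large.comm_z _ P.symp.mem_l

/-- generation from two outer generators -/
theorem cent2 (P : Plus Q z i j k l) {X : Wr.Shape} (hX : ∀ a, a ∈ im P ↔ Wr.D X a = true) {c d : G}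
    {a b : Wr} (hc : c ∈ Subgroup.centralizer ({z} : Set G)) (hd : d ∈ Subgroup.centralizer ({z} : Set G))
    (h1 : Ind P ⟨c, hc⟩ a) (h2 : Ind P ⟨d, hd⟩ b)
    (hall : ∀ x, Wr.D X x = true → ∃ m : Fin 3, ∃ n : Fin 2, x = a ^ (m : ℕ) * b ^ (n : ℕ)) :
    Subgroup.centralizer ({z} : Set G) = Subgroup.closure {i, j, k, l, c, d} := by
  refine cent_eq P _ ?_ ?_ ?_
  · intro g hg
    simp only [Set.mem_insert_iff, Set.mem_singleton_iff] at hg
    rcases hg with h | h | h | h | h | h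
    · exact memQ_cent P (by simp [h])
    · exact memQ_cent P (by simp [h])
    · exact memQ_cent P (by simp [h])
    · exact memQ_cent P (by simp [h])
    · rw [h]; exact hc
    · rw [h]; exact hd
  · intro g hg
    simp only [Set.mem_insert_iff, Set.mem_singleton_iff] at hg ⊢
    rcases hg with h | h | h | h <;> simp [h]
  · intro x hx
    obtain ⟨m, n, rfl⟩ := hall x ((hX x).1 hx)
    refine ⟨c ^ (m : ℕ) * d ^ (n : ℕ), mul_mem (pow_mem (Subgroup.subset_closure (by simp)) _)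
      (pow_mem (Subgroup.subset_closure (by simp)) _), mul_mem (pow_mem hc _) (pow_mem hd _), ?_⟩
    exact (h1.pow m).mul (h2.pow n)

/-- generation from three outer generators -/
theorem cent3 (P : Plus Q z i j k l) {X : Wr.Shape} (hX : ∀ a, a ∈ im P ↔ Wr.D X a = true) {c d f : G}
    {a b e' : Wr} (hc : c ∈ Subgroup.centralizer ({z} : Set G)) (hd : d ∈ Subgroup.centralizer ({z} : Set G))
    (hf : f ∈ Subgroup.centralizer ({z} : Set G))
    (h1 : Ind P ⟨c, hc⟩ a) (h2 : Ind P ⟨d, hd⟩ b) (h3 : Ind P ⟨f, hf⟩ e')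
    (hall : ∀ x, Wr.D X x = true → ∃ m : Fin 3, ∃ n : Fin 3, ∃ p : Fin 4,
      x = a ^ (m : ℕ) * b ^ (n : ℕ) * e' ^ (p : ℕ)) :
    Subgroup.centralizer ({z} : Set G) = Subgroup.closure {i, j, k, l, c, d, f} := by
  refine cent_eq P _ ?_ ?_ ?_
  · intro g hg
    simp only [Set.mem_insert_iff, Set.mem_singleton_iff] at hg
    rcases hg with h | h | h | h | h | h | h
    · exact memQ_cent P (by simp [h])
    · exact memQ_cent P (by simp [h])
    · exact memQ_cent P (by simp [h])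
    · exact memQ_cent P (by simp [h])
    · rw [h]; exact hc
    · rw [h]; exact hd
    · rw [h]; exact hf
  · intro g hg
    simp only [Set.mem_insert_iff, Set.mem_singleton_iff] at hg ⊢
    rcases hg with h | h | h | h <;> simp [h]
  · intro x hx
    obtain ⟨m, n, p, rfl⟩ := hall x ((hX x).1 hx)
    refine ⟨c ^ (m : ℕ) * d ^ (n : ℕ) * f ^ (p : ℕ), mul_mem (mul_mem (pow_mem (Subgroup.subset_closure (by simp)) _)
      (pow_mem (Subgroup.subset_closure (by simp)) _)) (pow_mem (Subgroup.subset_closure (by simp)) _),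
      mul_mem (mul_mem (pow_mem hc _) (pow_mem hd _)) (pow_mem hf _), ?_⟩
    exact ((h1.pow m).mul (h2.pow n)).mul (h3.pow p)

/-- generation from four outer generators -/
theorem cent4 (P : Plus Q z i j k l) {X : Wr.Shape} (hX : ∀ a, a ∈ im P ↔ Wr.D X a = true) {c d f g : G}
    {a b e' g' : Wr} (hc : c ∈ Subgroup.centralizer ({z} : Set G)) (hd : d ∈ Subgroup.centralizer ({z} : Set G))
    (hf : f ∈ Subgroup.centralizer ({z} : Set G)) (hg : g ∈ Subgroup.centralizer ({z} : Set G))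
    (h1 : Ind P ⟨c, hc⟩ a) (h2 : Ind P ⟨d, hd⟩ b) (h3 : Ind P ⟨f, hf⟩ e') (h4 : Ind P ⟨g, hg⟩ g')
    (hall : ∀ x, Wr.D X x = true → ∃ m : Fin 3, ∃ n : Fin 3, ∃ p : Fin 2, ∃ r : Fin 2,
      x = a ^ (m : ℕ) * b ^ (n : ℕ) * e' ^ (p : ℕ) * g' ^ (r : ℕ)) :
    Subgroup.centralizer ({z} : Set G) = Subgroup.closure {i, j, k, l, c, d, f, g} := by
  refine cent_eq P _ ?_ ?_ ?_
  · intro t ht
    simp only [Set.mem_insert_iff, Set.mem_singleton_iff] at ht
    rcases ht with h | h | h | h | h | h | h | h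
    · exact memQ_cent P (by simp [h])
    · exact memQ_cent P (by simp [h])
    · exact memQ_cent P (by simp [h])
    · exact memQ_cent P (by simp [h])
    · rw [h]; exact hc
    · rw [h]; exact hd
    · rw [h]; exact hf
    · rw [h]; exact hg
  · intro t ht
    simp only [Set.mem_insert_iff, Set.mem_singleton_iff] at ht ⊢
    rcases ht with h | h | h | h <;> simp [h]
  · intro x hx
    obtain ⟨m, n, p, r, rfl⟩ := hall x ((hX x).1 hx)
    refine ⟨c ^ (m : ℕ) * d ^ (n : ℕ) * f ^ (p : ℕ) * g ^ (r : ℕ),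
      mul_mem (mul_mem (mul_mem (pow_mem (Subgroup.subset_closure (by simp)) _)
      (pow_mem (Subgroup.subset_closure (by simp)) _)) (pow_mem (Subgroup.subset_closure (by simp)) _))
      (pow_mem (Subgroup.subset_closure (by simp)) _),
      mul_mem (mul_mem (mul_mem (pow_mem hc _) (pow_mem hd _)) (pow_mem hf _)) (pow_mem hg _), ?_⟩
    exact (((h1.pow m).mul (h2.pow n)).mul (h3.pow p)).mul (h4.pow r)

end ind

/-- **The six cases of type `+`.** -/
theorem cases_plus [Finite G] (hG : ∀ H : Subgroup G, H.index ≠ 2) (P0 : Plus Q z i j k l)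
    (hO : ∀ N : Subgroup G, Q ≤ N → N ≤ Subgroup.centralizer ({z} : Set G) →
      (∀ c ∈ Subgroup.centralizer ({z} : Set G), ∀ n ∈ N, c * n * c⁻¹ ∈ N) → IsPGroup 2 N → N ≤ Q)
    (hev : ∃ c ∈ Subgroup.centralizer ({z} : Set G), c ∉ Q ∧ c * c ∈ Q) :
    (∃ i j k l w s, CaseF1 Q z i j k l w s) ∨ (∃ i j k l v y, CaseF2 Q z i j k l v y) ∨
    (∃ i j k l x₁ x₂ s, Case9a Q z i j k l x₁ x₂ s) ∨ (∃ i j k l x₁ x₂ y, Case9c Q z i j k l x₁ x₂ y) ∨
    (∃ i j k l x₁ x₂ y s, Case9aa Q z i j k l x₁ x₂ y s) ∨ (∃ i j k l x₁ x₂ f, ∃ h : Case94 Q z i j k l x₁ x₂ f,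
      ∀ a, a ∈ im h.toPlus ↔ Wr.D .f4 a = true) := by
  obtain ⟨s, X, h0⟩ := concl_im hG P0 hO hev
  have P := plus_new P0 s
  have hX : ∀ a, a ∈ im (plus_new P0 s) ↔ Wr.D X a = true := fun a => by rw [mem_im_new]; exact h0 a
  clear h0 hev hO hG
  revert P hX
  generalize plus_new P0 s = P'
  revert P'
  generalize e i j k l (Wr.app s (.inl 0)) = i', e i j k l (Wr.app s (.inl 1)) = j',
    e i j k l (Wr.app s (.inr 0)) = k', e i j k l (Wr.app s (.inr 1)) = l'
  intro P _ hX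
  have hcard : Nat.card (Subgroup.centralizer ({z} : Set G)) = 32 * Fintype.card {a : Wr // Wr.D X a = true} := by
    rw [card_cent P, card_im P hX]
  cases X
  · left
    obtain ⟨w, A, ha⟩ := exists_w P ((hX _).2 (by decide))
    obtain ⟨t, S, hs⟩ := exists_s P ((hX _).2 (by decide))
    exact ⟨i', j', k', l', w, t, { P with
      w3 := ha
      w_act := A
      s_act := S
      ws := rel_ws P A ha S
      s2 := hs
      cent := cent2 P hX A.mem S.mem (ind_w P A) (ind_s P S) (by decide +kernel)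
      card_cent := hcard.trans (by decide +kernel) }⟩
  · right; left
    obtain ⟨v, A, ha⟩ := exists_v P ((hX _).2 (by decide))
    obtain ⟨y, Y, hy⟩ := exists_y P ((hX _).2 (by decide))
    exact ⟨i', j', k', l', v, y, { P with
      v3 := ha
      v_act := A
      y_act := Y
      vy := rel_vy P A ha Y
      y2 := hy
      cent := cent2 P hX A.mem Y.mem (ind_v P A) (ind_y P Y) (by decide +kernel)
      card_cent := hcard.trans (by decide +kernel) }⟩
  · right; right; left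
    obtain ⟨x₁, A, ha⟩ := exists_x1 P ((hX _).2 (by decide))
    obtain ⟨x₂, B, hb⟩ := exists_x2 P ((hX _).2 (by decide))
    obtain ⟨t, S, hs⟩ := exists_s P ((hX _).2 (by decide))
    exact ⟨i', j', k', l', x₁, x₂, t, { P with
      x₁3 := ha
      x₂3 := hb
      x₁_act := A
      x₂_act := B
      s_act := S
      xx := rel_xx P A ha B hb
      s1 := rel_s1 P A ha B hb S
      s2 := rel_s2 P A ha B hb S
      ss := hs
      cent := cent3 P hX A.mem B.mem S.mem (ind_x1 P A) (ind_x2 P B) (ind_s P S) (by decide +kernel)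
      card_cent := hcard.trans (by decide +kernel) }⟩
  · right; right; right; left
    obtain ⟨x₁, A, ha⟩ := exists_x1 P ((hX _).2 (by decide))
    obtain ⟨x₂, B, hb⟩ := exists_x2 P ((hX _).2 (by decide))
    obtain ⟨y, Y, hy⟩ := exists_y P ((hX _).2 (by decide))
    exact ⟨i', j', k', l', x₁, x₂, y, { P with
      x₁3 := ha
      x₂3 := hb
      x₁_act := A
      x₂_act := B
      y_act := Y
      xx := rel_xx P A ha B hb
      y1 := rel_y1 P A ha Y
      y2 := rel_y2 P B hb Y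
      yy := hy
      cent := cent3 P hX A.mem B.mem Y.mem (ind_x1 P A) (ind_x2 P B) (ind_y P Y) (by decide +kernel)
      card_cent := hcard.trans (by decide +kernel) }⟩
  · right; right; right; right; left
    obtain ⟨x₁, A, ha⟩ := exists_x1 P ((hX _).2 (by decide))
    obtain ⟨x₂, B, hb⟩ := exists_x2 P ((hX _).2 (by decide))
    obtain ⟨y, Y, hy⟩ := exists_y P ((hX _).2 (by decide))
    obtain ⟨t, S, hs⟩ := exists_s P ((hX _).2 (by decide))
    exact ⟨i', j', k', l', x₁, x₂, y, t, { P with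
      x₁3 := ha
      x₂3 := hb
      x₁_act := A
      x₂_act := B
      y_act := Y
      s_act := S
      xx := rel_xx P A ha B hb
      y1 := rel_y1 P A ha Y
      y2 := rel_y2 P B hb Y
      s1 := rel_s1 P A ha B hb S
      s2 := rel_s2 P A ha B hb S
      yy := hy
      ss := hs
      ys := rel_ys P Y S
      cent := cent4 P hX A.mem B.mem Y.mem S.mem (ind_x1 P A) (ind_x2 P B) (ind_y P Y) (ind_s P S)
        (by decide +kernel)
      card_cent := hcard.trans (by decide +kernel) }⟩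
  · right; right; right; right; right
    obtain ⟨x₁, A, ha⟩ := exists_x1 P ((hX _).2 (by decide))
    obtain ⟨x₂, B, hb⟩ := exists_x2 P ((hX _).2 (by decide))
    obtain ⟨f, F, hf⟩ := exists_f P ((hX _).2 (by decide))
    exact ⟨i', j', k', l', x₁, x₂, f, { P with
      x₁3 := ha
      x₂3 := hb
      x₁_act := A
      x₂_act := B
      f_act := F
      xx := rel_xx P A ha B hb
      f1 := rel_f1 P A ha B hb F
      f2 := rel_f2 P A ha B hb F
      f4 := hf
      cent := cent3 P hX A.mem B.mem F.mem (ind_x1 P A) (ind_x2 P B) (ind_f P F) (by decide +kernel)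
      card_cent := hcard.trans (by decide +kernel) }, hX⟩

end Cfsg.Agent.LargeExtra.W2.Cases
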